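import Groth.Agent.Catenary.Basic
import Groth.Agent.S0552
import Groth.Agent.DepthLib.RegularLocal
import Groth.Agent.DepthLib.Reduced
import Groth.Agent.DepthLib.CMModule
import Groth.Agent.DepthLib.FlatDepth
import Mathlib.RingTheory.RegularLocalRing.Polynomial

/-!
# Cohen–Macaulay rings are universally catenary

* `heightCat_of_cm_local`, `heightCat_of_cm`, `isCohenMacaulayRing_polynomial`.
* `isCatenary_of_finiteType_of_surjective`: finite type algebras over a quotient of a CM ring are catenary.
-/

universe u

open Polynomial RingTheory.Sequence LocCoh Groth.Agent.DepthLib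

namespace Groth.Agent.Catenary

theorem heightCat_of_cm_local (R : Type u) [CommRing R] [IsCohenMacaulayLocalRing R] : HeightCat R := by
  intro p q hpq
  let A := Localization.AtPrime q.asIdeal
  have : IsCohenMacaulayLocalRing A := isCohenMacaulayLocalRing_localization q.asIdeal
  let φ := locEmb (S := A) q.asIdeal.primeCompl
  have hmx : φ (IsLocalRing.closedPoint A) = q :=
    PrimeSpectrum.ext (IsLocalization.AtPrime.under_maximalIdeal A q.asIdeal)
  obtain ⟨P, hP⟩ : p ∈ Set.range φ := by
    change p ∈ Set.range (PrimeSpectrum.comap (algebraMap R A))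
    rw [PrimeSpectrum.localization_comap_range A q.asIdeal.primeCompl]
    exact Set.disjoint_left.mpr fun a ha hap => ha (hpq.lt.le hap)
  have hcov : P ⋖ IsLocalRing.closedPoint A := CovBy.of_image φ (by rw [hP, hmx]; exact hpq)
  have hco : Order.coheight P = 1 := by
    refine le_antisymm (Order.coheight_le_iff.mpr fun s hs => ?_) (Order.one_le_iff_pos.mpr ?_)
    · by_contra hlen
      have h2 : 2 ≤ s.length := by exact_mod_cast (Order.add_one_le_of_lt (not_le.mp hlen))
      have l1 : P < s ⟨1, by omega⟩ := lt_of_le_of_lt hs (s.strictMono (by simp [Fin.lt_def]))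
      have l2 : s ⟨1, by omega⟩ < s ⟨2, by omega⟩ := s.strictMono (by simp [Fin.lt_def])
      exact hcov.2 l1 (lt_of_lt_of_le l2 (IsLocalRing.le_maximalIdeal (s ⟨2, by omega⟩).2.ne_top))
    · rw [Order.coheight_pos]
      exact not_isMax_of_lt hcov.lt
  have hsum := (isCohenMacaulayModule_localization (M := A) isCohenMacaulayModule_self P
    (by rw [Module.mem_support_iff']; exact ⟨1, fun r hr => by
      rw [smul_eq_mul, mul_one]; exact fun h0 => hr (h0 ▸ P.asIdeal.zero_mem)⟩)).2
  rw [supportDim_localization_self, Module.supportDim_self_eq_ringKrullDim,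
    ← Hironaka.coheight_eq_ringKrullDim_quotient P, hco,
    ← IsLocalRing.maximalIdeal_height_eq_ringKrullDim, ← WithBot.coe_add, WithBot.coe_inj] at hsum
  rw [← hmx, ← hP, orderHeight_locEmb, orderHeight_locEmb]
  exact hsum.symm

theorem heightCat_of_forall_localization {R : Type u} [CommRing R]
    (h : ∀ (q : Ideal R) [q.IsPrime], HeightCat (Localization.AtPrime q)) : HeightCat R := by
  intro p q hpq
  let A := Localization.AtPrime q.asIdeal
  let φ := locEmb (S := A) q.asIdeal.primeCompl
  have hmx : φ (IsLocalRing.closedPoint A) = q :=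
    PrimeSpectrum.ext (IsLocalization.AtPrime.under_maximalIdeal A q.asIdeal)
  obtain ⟨P, hP⟩ : p ∈ Set.range φ := by
    change p ∈ Set.range (PrimeSpectrum.comap (algebraMap R A))
    rw [PrimeSpectrum.localization_comap_range A q.asIdeal.primeCompl]
    exact Set.disjoint_left.mpr fun a ha hap => ha (hpq.lt.le hap)
  rw [← hmx, ← hP, orderHeight_locEmb, orderHeight_locEmb]
  exact h q.asIdeal P _ (CovBy.of_image φ (by rw [hP, hmx]; exact hpq))

theorem heightCat_of_cm (R : Type u) [CommRing R] [IsCohenMacaulayRing R] : HeightCat R :=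
  heightCat_of_forall_localization fun q _ =>
    have := IsCohenMacaulayRing.isCohenMacaulayLocalRing_localization (R := R) q
    heightCat_of_cm_local (Localization.AtPrime q)

theorem isCohenMacaulayRing_of_isRegularRing (R : Type u) [CommRing R] [IsRegularRing R] :
    IsCohenMacaulayRing R where
  isCohenMacaulayLocalRing_localization p _ :=
    isCohenMacaulayLocalRing_of_isRegularLocalRing (Localization.AtPrime p)

theorem isCohenMacaulayLocalRing_of_ringEquiv {A B : Type u} [CommRing A] [CommRing B] (e : A ≃+* B)
    [IsCohenMacaulayLocalRing A] : IsCohenMacaulayLocalRing B := by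
  have : IsNoetherianRing B := isNoetherianRing_of_ringEquiv A e
  have : IsLocalRing B := e.isLocalRing
  let _ : Algebra A B := e.toRingHom.toAlgebra
  refine isCohenMacaulayLocalRing_iff.mpr ?_
  rw [depth_eq_of_surjective (R := A) (M := B) e.surjective, ← ringKrullDim_eq_of_ringEquiv e,
    ringKrullDim_eq_depth, depth_congr (LinearEquiv.ofBijective (Algebra.linearMap A B) e.bijective)]

theorem height_polynomial_le {R : Type u} [CommRing R] [IsNoetherianRing R] (Q : Ideal R[X]) [Q.IsPrime] :
    Q.height ≤ (Q.comap C).height + 1 := by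
  let r := Q.comap C
  let Rr := Localization.AtPrime r
  let _ : Algebra R[X] Rr[X] := Polynomial.algebra R Rr
  have : IsLocalization (r.primeCompl.map C) Rr[X] := Polynomial.isLocalization _ _
  have disj : Disjoint ((r.primeCompl.map (C : R →+* R[X])) : Set R[X]) (Q : Set R[X]) := by
    refine Set.disjoint_left.mpr ?_
    rintro _ ⟨b, hb, rfl⟩ hQ
    exact hb hQ
  have hp := IsLocalization.isPrime_of_isPrime_disjoint (r.primeCompl.map C) Rr[X] Q inferInstance disj
  obtain ⟨M, hM, hQM⟩ := Ideal.exists_le_maximal _ hp.ne_top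
  have hle : IsLocalRing.maximalIdeal Rr ≤ M.comap C := by
    rw [← Localization.AtPrime.map_eq_maximalIdeal, Ideal.map_le_iff_le_comap]
    intro a ha
    change C (algebraMap R Rr a) ∈ M
    have : algebraMap R[X] Rr[X] (C a) ∈ M := hQM (Ideal.mem_map_of_mem _ ha)
    simpa [RingHom.algebraMap_toAlgebra] using this
  have hMm : M.comap C = IsLocalRing.maximalIdeal Rr :=
    ((IsLocalRing.maximalIdeal.isMaximal Rr).eq_of_le (Ideal.comap_ne_top _ hM.ne_top) hle).symm
  have : M.LiesOver (IsLocalRing.maximalIdeal Rr) := ⟨hMm.symm⟩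
  have h := (Ideal.height_mono hQM).trans_eq
    (Polynomial.height_eq_height_add_one (IsLocalRing.maximalIdeal Rr) M)
  rwa [IsLocalization.height_map_of_disjoint (r.primeCompl.map C) Q disj,
    ← IsLocalization.height_under r.primeCompl (IsLocalRing.maximalIdeal Rr),
    IsLocalization.AtPrime.under_maximalIdeal Rr r] at h

theorem cm_localization_polynomial (R : Type u) [CommRing R] [IsCohenMacaulayLocalRing R]
    (P : Ideal R[X]) [P.IsPrime] (hP : P.comap C = IsLocalRing.maximalIdeal R) :
    IsCohenMacaulayLocalRing (Localization.AtPrime P) := by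
  let m := IsLocalRing.maximalIdeal R
  obtain ⟨d, hd⟩ := exists_nat_depth (R := R) R
  have hht : m.height = d := by
    have := ringKrullDim_eq_depth (R := R)
    rw [← IsLocalRing.maximalIdeal_height_eq_ringKrullDim, hd, WithBot.coe_inj] at this
    exact this
  obtain ⟨rs, hlen, hrs, hrsm⟩ := natCast_le_depth_iff.mp hd.ge
  have hwr : IsWeaklyRegular R[X] (rs.map (algebraMap R R[X])) := hrs.of_flat
  have hmP : ∀ r ∈ rs.map (algebraMap R R[X]), r ∈ P := by
    intro r hr
    obtain ⟨a, ha, rfl⟩ := List.mem_map.mp hr
    change a ∈ P.comap C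
    rw [hP]
    exact hrsm a ha
  have hdepth : ∀ {n : ℕ}, (n : ℕ∞) ≤ idealDepth P R[X] →
      (n : ℕ∞) ≤ depth (Localization.AtPrime P) (Localization.AtPrime P) := fun h =>
    h.trans ((idealDepth_le_depth_localization P le_rfl).trans_eq (depth_localization_self P))
  have hmle : m.map C ≤ P := Ideal.map_le_iff_le_comap.mpr hP.ge
  refine isCohenMacaulayLocalRing_iff.mpr ?_
  rw [IsLocalization.AtPrime.ringKrullDim_eq_height P, WithBot.coe_le_coe]
  by_cases heq : P = m.map C
  · refine le_trans ?_ (hdepth (n := d) ((Nat.cast_le.mpr (by rw [List.length_map, hlen])).trans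
      (le_idealDepth_of_isWeaklyRegular _ hwr hmP)))
    subst heq
    rw [Polynomial.height_map_C, hht]
  · have hmax : (P.comap C).IsMaximal := hP ▸ IsLocalRing.maximalIdeal.isMaximal R
    obtain ⟨f, hf, hPf⟩ := Polynomial.exists_monic_span_sup_map_eq R P hmax (by rwa [hP])
    have hfP : f ∈ P := by rw [hPf]; exact Ideal.mem_sup_right (Ideal.mem_span_singleton_self f)
    have hof : Ideal.ofList (rs.map (algebraMap R R[X])) = (Ideal.ofList rs).map C :=
      (Ideal.map_ofList (algebraMap R R[X]) rs).symm
    have hreg : IsWeaklyRegular R[X] (rs.map (algebraMap R R[X]) ++ [f]) := by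
      rw [isWeaklyRegular_concat_iff]
      refine ⟨hwr, ?_⟩
      intro a b hab
      obtain ⟨a, rfl⟩ := Submodule.Quotient.mk_surjective _ a
      obtain ⟨b, rfl⟩ := Submodule.Quotient.mk_surjective _ b
      change Submodule.Quotient.mk (f * a) = Submodule.Quotient.mk (f * b) at hab
      rw [Submodule.Quotient.eq, smul_eq_mul, Ideal.mul_top, ← mul_sub, hof, ← Ideal.mk_ker (I := Ideal.ofList rs),
        ← Polynomial.ker_mapRingHom, RingHom.mem_ker, map_mul] at hab
      rw [Submodule.Quotient.eq, smul_eq_mul, Ideal.mul_top, hof, ← Ideal.mk_ker (I := Ideal.ofList rs),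
        ← Polynomial.ker_mapRingHom, RingHom.mem_ker]
      exact ((hf.map (Ideal.Quotient.mk (Ideal.ofList rs))).mem_nonZeroDivisors).1 _ hab
    refine le_trans ?_ (hdepth (n := d + 1) ((Nat.cast_le.mpr (by simp [hlen])).trans
      (le_idealDepth_of_isWeaklyRegular _ hreg fun r hr => by
        rcases List.mem_append.mp hr with h | h
        · exact hmP r h
        · rwa [List.mem_singleton.mp h])))
    push_cast
    exact (height_polynomial_le P).trans_eq (by rw [hP, hht])

theorem isCohenMacaulayRing_polynomial (R : Type u) [CommRing R] [IsCohenMacaulayRing R] :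
    IsCohenMacaulayRing R[X] where
  isCohenMacaulayLocalRing_localization p hp := by
    let q := p.comap C
    let A := Localization.AtPrime q
    have : IsCohenMacaulayLocalRing A := IsCohenMacaulayRing.isCohenMacaulayLocalRing_localization q
    let S := A[X]
    let pc : Submonoid R[X] := q.primeCompl.map (C : R →+* R[X])
    let _ : Algebra R[X] S := Polynomial.algebra R A
    have : IsLocalization pc S := Polynomial.isLocalization _ _
    let pS := p.map (algebraMap R[X] S)
    have disj : Disjoint (pc : Set R[X]) (p : Set R[X]) := by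
      refine Set.disjoint_left.mpr ?_
      rintro _ ⟨b, hb, rfl⟩ hQ
      exact hb hQ
    have : pS.IsPrime := IsLocalization.isPrime_of_isPrime_disjoint pc _ _ hp disj
    have : IsLocalization.AtPrime (Localization.AtPrime pS) p := by
      convert IsLocalization.isLocalization_isLocalization_atPrime_isLocalization pc
        (Localization.AtPrime pS) pS
      exact (IsLocalization.under_map_of_isPrime_disjoint pc _ hp disj).symm
    have hle : IsLocalRing.maximalIdeal A ≤ pS.comap C := by
      rw [← Localization.AtPrime.map_eq_maximalIdeal, Ideal.map_le_iff_le_comap]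
      intro a ha
      change C (algebraMap R A a) ∈ pS
      have : algebraMap R[X] S (C a) ∈ pS := Ideal.mem_map_of_mem _ ha
      rwa [RingHom.algebraMap_toAlgebra, Polynomial.coe_mapRingHom, Polynomial.map_C] at this
    have eq : pS.comap C = IsLocalRing.maximalIdeal A :=
      ((IsLocalRing.maximalIdeal.isMaximal A).eq_of_le (Ideal.comap_ne_top _ Ideal.IsPrime.ne_top') hle).symm
    have := cm_localization_polynomial A pS eq
    exact isCohenMacaulayLocalRing_of_ringEquiv (A := Localization.AtPrime pS) (B := Localization.AtPrime p)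
      (IsLocalization.algEquiv p.primeCompl (Localization.AtPrime pS) (Localization.AtPrime p)).toRingEquiv

theorem isCohenMacaulayRing_of_ringEquiv {A B : Type u} [CommRing A] [CommRing B] (e : A ≃+* B)
    [IsCohenMacaulayRing A] : IsCohenMacaulayRing B where
  noetherian := (isNoetherianRing_of_ringEquiv A e).noetherian
  isCohenMacaulayLocalRing_localization q hq := by
    let p := q.comap e.toRingHom
    have := IsCohenMacaulayRing.isCohenMacaulayLocalRing_localization p
    exact isCohenMacaulayLocalRing_of_ringEquiv (IsLocalization.ringEquivOfRingEquiv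
      (M := p.primeCompl) (T := q.primeCompl) (Localization.AtPrime p) (Localization.AtPrime q) e
      (by
        ext x
        constructor
        · rintro ⟨a, ha, rfl⟩; exact ha
        · intro hx; exact ⟨e.symm x, fun h => hx (by simpa [p] using h), e.apply_symm_apply x⟩))

theorem isCohenMacaulayRing_mvPolynomial (R : Type u) [CommRing R] [IsCohenMacaulayRing R] (n : ℕ) :
    IsCohenMacaulayRing (MvPolynomial (Fin n) R) := by
  induction n with
  | zero => exact isCohenMacaulayRing_of_ringEquiv (MvPolynomial.isEmptyRingEquiv R (Fin 0)).symm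
  | succ n ih =>
    have := isCohenMacaulayRing_polynomial (MvPolynomial (Fin n) R)
    exact isCohenMacaulayRing_of_ringEquiv (MvPolynomial.finSuccEquiv R n).toRingEquiv.symm

/-- Finite type algebras over quotients of Cohen–Macaulay rings are catenary. -/
theorem isUniversallyCatenary_of_surjective {S R : Type u} [CommRing S] [CommRing R] [IsCohenMacaulayRing S]
    (f : S →+* R) (hf : Function.Surjective f) : CAlg.IsUniversallyCatenary R := by
  have hN : IsNoetherianRing R := isNoetherianRing_of_surjective S R f hf
  refine ⟨hN, fun T _ _ hT => ?_⟩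
  obtain ⟨n, g, hg⟩ := Algebra.FiniteType.iff_quotient_mvPolynomial''.mp hT
  have := isCohenMacaulayRing_mvPolynomial S n
  exact isCatenary_of_surjective (g.toRingHom.comp (MvPolynomial.map f)) (hg.comp (MvPolynomial.map_surjective f hf))
    (heightCat_of_cm (MvPolynomial (Fin n) S)).isCatenary

/-- `HeightCat` passes to polynomial rings with catenary polynomial ring. -/
theorem HeightCat.polynomial {R : Type u} [CommRing R] [IsNoetherianRing R] (h : HeightCat R)
    (hcat : CAlg.IsCatenary R[X]) : HeightCat R[X] := by
  refine heightCat_of_series hcat fun m Q hm hmQ => ?_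
  let r : PrimeSpectrum R := PrimeSpectrum.comap C Q
  let m₀ : PrimeSpectrum R := PrimeSpectrum.comap C m
  let mC : PrimeSpectrum R → PrimeSpectrum R[X] := fun p => ⟨p.asIdeal.map C, inferInstance⟩
  have hmC : StrictMono mC := fun a b hab => by
    refine lt_of_le_of_ne (Ideal.map_mono hab.le) fun e => hab.not_ge fun x hx => ?_
    have : C x ∈ a.asIdeal.map C :=
      (show a.asIdeal.map C = b.asIdeal.map C from congrArg PrimeSpectrum.asIdeal e) ▸ Ideal.mem_map_of_mem C hx
    simpa using Ideal.mem_map_C_iff.mp this 0
  have hmC₀ : mC m₀ = m := le_antisymm (show (m.asIdeal.comap C).map C ≤ m.asIdeal from Ideal.map_comap_le)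
    (hm (show mC m₀ ≤ m from Ideal.map_comap_le))
  obtain ⟨P, hP, hPle⟩ := Ideal.exists_minimalPrimes_le (I := ⊥) (J := m₀.asIdeal) bot_le
  have hPm : mC ⟨P, hP.isPrime⟩ = m := by
    have hle : mC ⟨P, hP.isPrime⟩ ≤ m := hmC₀ ▸ hmC.monotone hPle
    exact le_antisymm hle (hm hle)
  have hP0 : P.height = 0 := by
    have := hP.isPrime
    exact Ideal.height_eq_zero_iff.mpr hP
  obtain ⟨N, hN⟩ := h.isCatenary.1 ⟨P, hP.isPrime⟩ r (le_trans hPle (Ideal.comap_mono hmQ))
  obtain ⟨s₀, h1, h2⟩ : ∃ s : LTSeries (PrimeSpectrum R), s.head = ⟨P, hP.isPrime⟩ ∧ s.last = r := by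
    rcases (show (⟨P, hP.isPrime⟩ : PrimeSpectrum R) ≤ r from le_trans hPle (Ideal.comap_mono hmQ)).eq_or_lt with e | hlt
    · exact ⟨RelSeries.singleton _ r, e.symm, rfl⟩
    · exact ⟨⟨1, ![_, r], fun i => by fin_cases i; exact hlt⟩, rfl, rfl⟩
  obtain ⟨s, e1, e2, -, e4⟩ := CompSections.exists_saturated_of_bounded hN s₀ h1 h2
  have hlen := h.height_last _ s rfl e4
  rw [e1, e2, hP0, zero_add] at hlen
  let t := s.map mC hmC
  have ht0 : t.head = m := (congrArg mC e1).trans hPm
  have htl : t.last = mC r := congrArg mC e2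
  rcases (show mC r ≤ Q from Ideal.map_comap_le).eq_or_lt with e | hlt
  · refine ⟨t, ht0, htl.trans e, ?_⟩
    rw [← e]
    have : (r.asIdeal.map C).LiesOver r.asIdeal := ⟨by ext x; simpa [Ideal.mem_map_C_iff] using
      ⟨fun hx i => by rcases i with - | i <;> simp [hx], fun h => by simpa using h 0⟩⟩
    exact ((DepthLib.height_eq_of_mem_minimalPrimes_map (B := R[X]) r.asIdeal _
      ⟨⟨(mC r).2, le_rfl⟩, fun I hI _ => hI.2⟩).trans hlen).le
  · let u : LTSeries (PrimeSpectrum R[X]) := ⟨1, ![mC r, Q], fun i => by fin_cases i; exact hlt⟩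
    refine ⟨t.smash u (htl.trans (rfl : mC r = u.head)), ?_, ?_, ?_⟩
    · rw [RelSeries.head_smash, ht0]
    · rw [RelSeries.last_smash]; rfl
    · refine (height_polynomial_le Q.asIdeal).trans_eq ?_
      rw [RelSeries.smash_length, show (Q.asIdeal.comap C).height = _ from hlen]
      exact (Nat.cast_add s.length 1).symm

theorem HeightCat.of_ringEquiv {A B : Type u} [CommRing A] [CommRing B] (e : A ≃+* B) (h : HeightCat A) :
    HeightCat B := fun p q hpq => by
  let φ := surjEmb e.toRingHom e.surjective
  have := h (φ p) (φ q) (hpq.image φ (ordConnected_surjEmb _ _))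
  change (q.asIdeal.comap e).height = (p.asIdeal.comap e).height + 1 at this
  rwa [e.height_comap, e.height_comap] at this

theorem HeightCat.mvPolynomial {R : Type u} [CommRing R] [IsNoetherianRing R] (h : HeightCat R)
    (hcat : CAlg.IsUniversallyCatenary R) (n : ℕ) : HeightCat (MvPolynomial (Fin n) R) := by
  induction n with
  | zero => exact h.of_ringEquiv (MvPolynomial.isEmptyRingEquiv R (Fin 0)).symm
  | succ n ih =>
    exact (ih.polynomial (hcat.2 _ inferInstance)).of_ringEquiv
      (MvPolynomial.finSuccEquiv R n).toRingEquiv.symm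

end Groth.Agent.Catenary
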