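import Groth.Agent.Catenary.Basic
import Groth.Agent.DepthLib.FlatDepth

/-!
# Descent of `HeightCat` along flat maps which are surjective on spectra
-/

universe u

namespace Groth.Agent.Catenary

variable {A B : Type u} [CommRing A] [CommRing B] [Algebra A B]

theorem HeightCat.of_flat [IsNoetherianRing A] [IsNoetherianRing B] [Module.Flat A B]
    (hsurj : Function.Surjective (PrimeSpectrum.comap (algebraMap A B))) (h : HeightCat B) : HeightCat A := by
  intro p q hpq
  obtain ⟨Q₀, hQ₀⟩ := hsurj q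
  have hQ₀' : Q₀.asIdeal.comap (algebraMap A B) = q.asIdeal := congrArg PrimeSpectrum.asIdeal hQ₀
  obtain ⟨Q, hQ, hQQ₀⟩ := Ideal.exists_minimalPrimes_le (I := q.asIdeal.map (algebraMap A B))
    (J := Q₀.asIdeal) (Ideal.map_le_iff_le_comap.mpr hQ₀'.ge)
  have := hQ.isPrime
  have : Q.LiesOver q.asIdeal := DepthLib.liesOver_of_mem_minimalPrimes_map hQ hQQ₀ hQ₀'
  have hQc : Q.comap (algebraMap A B) = q.asIdeal := (Ideal.LiesOver.over (p := q.asIdeal) (P := Q)).symm
  obtain ⟨P₀, hP₀Q, _, _⟩ := Ideal.exists_ideal_le_liesOver_of_le (p := p.asIdeal) (q := q.asIdeal) Q hpq.le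
  have hP₀c : P₀.comap (algebraMap A B) = p.asIdeal := (Ideal.LiesOver.over (p := p.asIdeal) (P := P₀)).symm
  obtain ⟨P, hP, hPP₀⟩ := Ideal.exists_minimalPrimes_le (I := p.asIdeal.map (algebraMap A B)) (J := P₀)
    (Ideal.map_le_iff_le_comap.mpr hP₀c.ge)
  have := hP.isPrime
  have : P.LiesOver p.asIdeal := DepthLib.liesOver_of_mem_minimalPrimes_map hP hPP₀ hP₀c
  have hPc : P.comap (algebraMap A B) = p.asIdeal := (Ideal.LiesOver.over (p := p.asIdeal) (P := P)).symm
  obtain ⟨t, htq, htp⟩ := SetLike.exists_of_lt (show p.asIdeal < q.asIdeal from hpq.lt)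
  have htP : algebraMap A B t ∉ P := fun h => htp (hPc ▸ h)
  have htQ : algebraMap A B t ∈ Q := by rw [← Ideal.mem_comap, hQc]; exact htq
  have hcov : (⟨P, inferInstance⟩ : PrimeSpectrum B) ⋖ ⟨Q, inferInstance⟩ := by
    refine Hironaka.covBy_of_mem_minimalPrimes_sup (t := algebraMap A B t) htP
      ⟨⟨inferInstance, sup_le (hPP₀.trans hP₀Q) ((Ideal.span_singleton_le_iff_mem _).mpr htQ)⟩, ?_⟩
    rintro Q' ⟨hQ', hle⟩ hQ'Q
    refine hQ.2 ⟨hQ', Ideal.map_le_iff_le_comap.mpr ?_⟩ hQ'Q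
    let r : PrimeSpectrum A := ⟨Q'.comap (algebraMap A B), hQ'.comap _⟩
    have h1 : p < r := by
      refine lt_of_le_of_ne ?_ fun e => htp ?_
      · change p.asIdeal ≤ Q'.comap _
        rw [← hPc]
        exact Ideal.comap_mono (le_sup_left.trans hle)
      · rw [e]
        exact hle (Ideal.mem_sup_right (Ideal.mem_span_singleton_self _))
    have h2 : r ≤ q := by
      change Q'.comap _ ≤ q.asIdeal
      rw [← hQc]
      exact Ideal.comap_mono hQ'Q
    exact (congrArg PrimeSpectrum.asIdeal (h2.eq_of_not_lt fun hlt => hpq.2 h1 hlt)).ge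
  rw [← DepthLib.height_eq_of_mem_minimalPrimes_map p.asIdeal P hP,
    ← DepthLib.height_eq_of_mem_minimalPrimes_map q.asIdeal Q hQ]
  exact h ⟨P, inferInstance⟩ ⟨Q, inferInstance⟩ hcov

end Groth.Agent.Catenary
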