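import Groth.Agent.Catenary.CM
import Groth.Agent.Catenary.Flat
import Groth.Agent.CohenStruct.Structure
import Groth.Agent.CohenStruct.N2
import Groth.Agent.PP16Lib.RegularCompletion
import Groth.Agent.RegularSerre.Localization
import Groth.Prelude.Def_EGA4b
import Groth.Agent.DepthLib.CMPoly
import Mathlib.RingTheory.TensorProduct.MvPolynomial

/-!
# Completions: complete rings are universally catenary; formally equidimensional rings
-/

universe u

open IsLocalRing

namespace Groth.Agent.Catenary

theorem isUniversallyCatenary_of_complete (R : Type u) [CommRing R] [IsLocalRing R] [IsNoetherianRing R]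
    [IsAdicComplete (maximalIdeal R) R] : CAlg.IsUniversallyCatenary R := by
  obtain ⟨Λ, _, n, f, hΛ, hf⟩ := CohenStruct.exists_surjective R (IsNoetherian.noetherian _)
  obtain ⟨hd⟩ : Nonempty (IsRegularRing Λ) := by
    rcases hΛ with hF | hC
    · let := hF.toField
      exact ⟨DepthLib.CMPoly.isRegularRing_field Λ⟩
    · obtain ⟨hd, hdvr, -⟩ := hC
      exact ⟨inferInstance⟩
  have := PP16Lib.isRegularRing_mvPowerSeries (A := Λ) n
  have := isCohenMacaulayRing_of_isRegularRing (MvPowerSeries (Fin n) Λ)
  exact isUniversallyCatenary_of_surjective f hf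

theorem isUniversallyCatenary_completion (A : Type u) [CommRing A] [IsLocalRing A] [IsNoetherianRing A] :
    CAlg.IsUniversallyCatenary (AdicCompletion (maximalIdeal A) A) := by
  have := CohenStruct.isNoetherianRing_completion A
  have : IsAdicComplete (maximalIdeal (AdicCompletion (maximalIdeal A) A)) (AdicCompletion (maximalIdeal A) A) :=
    inferInstance
  exact isUniversallyCatenary_of_complete _

theorem surjective_comap_completion (A : Type u) [CommRing A] [IsLocalRing A] [IsNoetherianRing A] :
    Function.Surjective (PrimeSpectrum.comap (algebraMap A (AdicCompletion (maximalIdeal A) A))) := by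
  have : Module.FaithfullyFlat A (AdicCompletion (maximalIdeal A) A) :=
    Module.FaithfullyFlat.of_flat_of_isLocalHom
  exact PrimeSpectrum.comap_surjective_of_faithfullyFlat

theorem heightCat_completion {A : Type u} [CommRing A] [IsLocalRing A] [IsNoetherianRing A]
    (h : EGA4.IsFormallyEquidim A) : HeightCat (AdicCompletion (maximalIdeal A) A) := by
  have := CohenStruct.isNoetherianRing_completion A
  have hcat : CAlg.IsCatenary (AdicCompletion (maximalIdeal A) A) :=
    (isUniversallyCatenary_completion A).2 _ inferInstance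
  exact heightCat_of_equidim hcat h

theorem heightCat_of_formallyEquidim {A : Type u} [CommRing A] [IsLocalRing A] [IsNoetherianRing A]
    (h : EGA4.IsFormallyEquidim A) : HeightCat A :=
  have := CohenStruct.isNoetherianRing_completion A
  (heightCat_completion h).of_flat (surjective_comap_completion A)

/-- A formally equidimensional local ring has catenary polynomial rings. -/
theorem heightCat_mvPolynomial_of_formallyEquidim {A : Type u} [CommRing A] [IsLocalRing A] [IsNoetherianRing A]
    (h : EGA4.IsFormallyEquidim A) (n : ℕ) : HeightCat (MvPolynomial (Fin n) A) := by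
  have := CohenStruct.isNoetherianRing_completion A
  let Ah := AdicCompletion (maximalIdeal A) A
  have : Module.FaithfullyFlat A Ah := Module.FaithfullyFlat.of_flat_of_isLocalHom
  let B := MvPolynomial (Fin n) Ah
  have hB : HeightCat B := (heightCat_completion h).mvPolynomial (isUniversallyCatenary_completion A) n
  let _ : Algebra (MvPolynomial (Fin n) A) B := MvPolynomial.algebraMvPolynomial
  have e := (Algebra.IsPushout.equiv A (MvPolynomial (Fin n) A) Ah B).toLinearEquiv
  have : Module.FaithfullyFlat (MvPolynomial (Fin n) A) B := Module.FaithfullyFlat.of_linearEquiv _ _ e.symm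
  exact hB.of_flat PrimeSpectrum.comap_surjective_of_faithfullyFlat

theorem isPrime_map_mvC {A : Type u} [CommRing A] (n : ℕ) (p : Ideal A) [p.IsPrime] :
    (p.map (MvPolynomial.C (R := A) (σ := Fin n))).IsPrime :=
  (Ideal.Quotient.isDomain_iff_prime _).mp
    (MulEquiv.isDomain (MvPolynomial (Fin n) (A ⧸ p))
      (MvPolynomial.quotientEquivQuotientMvPolynomial p).symm.toRingEquiv.toMulEquiv)

theorem isUniversallyCatenary_of_formallyCatenary {A : Type u} [CommRing A] [IsLocalRing A] [IsNoetherianRing A]
    (h : EGA4.IsFormallyCatenary A) : CAlg.IsUniversallyCatenary A := by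
  refine ⟨inferInstance, fun T _ _ hT => ?_⟩
  obtain ⟨n, g, hg⟩ := Algebra.FiniteType.iff_quotient_mvPolynomial''.mp hT
  refine isCatenary_of_surjective g.toRingHom hg (isCatenary_of_forall_minimalPrimes fun P hP => ?_)
  have := hP.isPrime
  let p := P.comap (MvPolynomial.C (R := A) (σ := Fin n))
  have hPp : P = p.map MvPolynomial.C := by
    refine le_antisymm (hP.2 ⟨?_, bot_le⟩ Ideal.map_comap_le) Ideal.map_comap_le
    exact isPrime_map_mvC n p
  rw [hPp]
  exact isCatenary_of_surjective
    (MvPolynomial.quotientEquivQuotientMvPolynomial p).toRingEquiv.toRingHom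
    (MvPolynomial.quotientEquivQuotientMvPolynomial p).surjective
    (heightCat_mvPolynomial_of_formallyEquidim (h p) n).isCatenary

/-- Completion of a quotient. -/
theorem exists_completion_quotient_equiv {A : Type u} [CommRing A] [IsLocalRing A] [IsNoetherianRing A]
    (a : Ideal A) [Nontrivial (A ⧸ a)] [IsLocalRing (A ⧸ a)] :
    Nonempty (AdicCompletion (maximalIdeal (A ⧸ a)) (A ⧸ a) ≃+*
      AdicCompletion (maximalIdeal A) A ⧸ a.map (algebraMap A (AdicCompletion (maximalIdeal A) A))) := by
  let Ah := AdicCompletion (maximalIdeal A) A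
  let m := maximalIdeal A
  let aH := a.map (algebraMap A Ah)
  have := CohenStruct.isNoetherianRing_completion A
  have : IsAdicComplete (maximalIdeal Ah) Ah := inferInstance
  have hane : a ≠ ⊤ := Ideal.Quotient.nontrivial_iff.mp inferInstance
  have : Nontrivial (Ah ⧸ aH) := Ideal.Quotient.nontrivial_iff.mpr fun htop => hane <| by
    rw [Ideal.eq_top_iff_one]
    by_contra h1
    have hle := Ideal.map_mono (f := algebraMap A Ah) (IsLocalRing.le_maximalIdeal hane)
    rw [show a.map (algebraMap A Ah) = aH from rfl, htop, ← AdicCompletion.maximalIdeal_eq_map] at hle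
    exact (maximalIdeal.isMaximal Ah).ne_top (top_le_iff.mp hle)
  have : IsLocalRing (Ah ⧸ aH) := .of_surjective' (Ideal.Quotient.mk aH) Ideal.Quotient.mk_surjective
  have hmA : maximalIdeal (A ⧸ a) = m.map (Ideal.Quotient.mk a) :=
    (map_maximalIdeal_of_surjective (Ideal.Quotient.mk a) Ideal.Quotient.mk_surjective).symm
  have hmH : maximalIdeal (Ah ⧸ aH) = (m.map (algebraMap A Ah)).map (Ideal.Quotient.mk aH) := by
    rw [← map_maximalIdeal_of_surjective (Ideal.Quotient.mk aH) Ideal.Quotient.mk_surjective,
      AdicCompletion.maximalIdeal_eq_map]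
  have : IsAdicComplete (maximalIdeal (Ah ⧸ aH)) (Ah ⧸ aH) := by
    rw [← map_maximalIdeal_of_surjective (Ideal.Quotient.mk aH) Ideal.Quotient.mk_surjective]
    exact AdicLim.isAdicComplete_quotient aH
  let φ : A ⧸ a →+* Ah ⧸ aH := Ideal.quotientMap aH (algebraMap A Ah) Ideal.le_comap_map
  have hφ : φ.comp (Ideal.Quotient.mk a) = (Ideal.Quotient.mk aH).comp (algebraMap A Ah) :=
    Ideal.quotientMap_comp_mk _
  have hpow : ∀ n, (maximalIdeal (A ⧸ a) ^ n).map φ = maximalIdeal (Ah ⧸ aH) ^ n := fun n => by
    rw [Ideal.map_pow, hmA, hmH, Ideal.map_map, Ideal.map_map, hφ]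
  let ψ : ∀ n, (A ⧸ a) ⧸ maximalIdeal (A ⧸ a) ^ n →+* (Ah ⧸ aH) ⧸ maximalIdeal (Ah ⧸ aH) ^ n := fun n =>
    Ideal.quotientMap _ φ (Ideal.map_le_iff_le_comap.mp (hpow n).le)
  have hψ : ∀ n, Function.Bijective (ψ n) := by
    intro n
    have hK : ∀ x : A, Ideal.Quotient.mk aH (algebraMap A Ah x) ∈ maximalIdeal (Ah ⧸ aH) ^ n →
        Ideal.Quotient.mk a x ∈ maximalIdeal (A ⧸ a) ^ n := fun x hx => by
      rw [hmH, ← Ideal.map_pow, Ideal.mem_quotient_iff_mem_sup, ← Ideal.map_pow, ← Ideal.map_sup] at hx
      rw [hmA, ← Ideal.map_pow, Ideal.mem_quotient_iff_mem_sup]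
      exact PP16Lib.mem_of_algebraMap_mem m (N := n) le_sup_left hx
    constructor
    · rw [injective_iff_map_eq_zero]
      intro z hz
      obtain ⟨z, rfl⟩ := Ideal.Quotient.mk_surjective z
      obtain ⟨x, rfl⟩ := Ideal.Quotient.mk_surjective z
      exact Ideal.Quotient.eq_zero_iff_mem.mpr (hK x (Ideal.Quotient.eq_zero_iff_mem.mp hz))
    · intro z
      obtain ⟨z, rfl⟩ := Ideal.Quotient.mk_surjective z
      obtain ⟨y, rfl⟩ := Ideal.Quotient.mk_surjective z
      obtain ⟨x, hx⟩ := PP16Lib.exists_sub_mem_map_pow m n y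
      refine ⟨Ideal.Quotient.mk _ (Ideal.Quotient.mk a x), Ideal.Quotient.eq.mpr ?_⟩
      change Ideal.Quotient.mk aH (algebraMap A Ah x) - Ideal.Quotient.mk aH y ∈ _
      rw [hmH, ← Ideal.map_pow, ← map_sub, Ideal.mem_quotient_iff_mem_sup, ← Ideal.map_pow]
      exact Ideal.mem_sup_left hx
  obtain ⟨Φ, -⟩ := PP16Lib.exists_completion_equiv_of_quotients (fun n => RingEquiv.ofBijective (ψ n) (hψ n))
    fun {k n} hle x => by
      obtain ⟨x, rfl⟩ := Ideal.Quotient.mk_surjective x
      rfl
  exact ⟨Φ.trans (AdicCompletion.ofAlgEquiv (maximalIdeal (Ah ⧸ aH))).toRingEquiv.symm⟩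

end Groth.Agent.Catenary
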