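import Groth.Prelude.Def_Found
import Groth.Agent.Hironaka.Catenary
import Groth.Agent.CompSections.Basic
import Mathlib.RingTheory.Spectrum.Prime.Topology

/-!
# Catenary rings and height functions

* `HeightCat R`: heights go up by one along coverings of primes (the ring is then catenary; a local ring
  is `HeightCat` iff it is catenary and equidimensional).
* `isCatenary_of_surjective`, `isCatenary_of_isLocalization`, `isCatenary_of_forall_minimalPrimes`.
* `HeightCat.of_flat`: descent along faithfully flat maps.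
-/

universe u v

namespace Groth.Agent.Catenary

variable {R : Type u} [CommRing R]

/-- The height goes up by exactly one along every covering of primes. -/
def HeightCat (R : Type u) [CommRing R] : Prop :=
  ∀ p q : PrimeSpectrum R, p ⋖ q → q.asIdeal.height = p.asIdeal.height + 1

theorem orderHeight_eq (p : PrimeSpectrum R) : Order.height p = p.asIdeal.height :=
  p.height_eq_orderHeight.symm

theorem exists_height_eq [IsNoetherianRing R] (p : PrimeSpectrum R) : ∃ n : ℕ, p.asIdeal.height = n :=
  ⟨_, (ENat.natCast_toNat (Ideal.height_ne_top_of_isPrime)).symm⟩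

theorem length_le_height (s : LTSeries (PrimeSpectrum R)) :
    (s.length : ℕ∞) ≤ s.last.asIdeal.height := by
  rw [← orderHeight_eq]
  exact Order.length_le_height_last

theorem HeightCat.height_last (h : HeightCat R) : ∀ (n : ℕ) (s : LTSeries (PrimeSpectrum R)), s.length = n →
    (∀ i : Fin s.length, s i.castSucc ⋖ s i.succ) → s.last.asIdeal.height = s.head.asIdeal.height + n := by
  intro n
  induction n with
  | zero =>
    intro s hs _
    rw [Nat.cast_zero, add_zero, show s.last = s.head from congrArg s (Fin.ext (by simp [hs]))]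
  | succ n ih =>
    intro s hs hsat
    let t : LTSeries (PrimeSpectrum R) := s.eraseLast
    have h1 := ih t (by simp [t, hs]) fun i =>
      hsat ⟨i.1, lt_of_lt_of_le i.2 (by simp [t])⟩
    have h2 := h _ _ (hsat ⟨n, by omega⟩)
    rw [show s.last = s (Fin.succ ⟨n, by omega⟩) from congrArg s (Fin.ext (by simp [hs])), h2,
      show s (Fin.castSucc ⟨n, by omega⟩) = t.last from congrArg s (Fin.ext (by simp [t, hs])), h1,
      show t.head = s.head from rfl, Nat.cast_succ, add_assoc]

theorem HeightCat.isCatenary [IsNoetherianRing R] (h : HeightCat R) : CAlg.IsCatenary R := by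
  refine ⟨fun p q _ => ?_, fun s t h1 h2 hs ht => ?_⟩
  · obtain ⟨n, hn⟩ := exists_height_eq q
    exact ⟨n, fun s _ hq => by exact_mod_cast (length_le_height s).trans_eq (hq ▸ hn)⟩
  · have e1 := h.height_last _ s rfl hs
    rw [h2, h1, h.height_last _ t rfl ht] at e1
    obtain ⟨n, hn⟩ := exists_height_eq t.head
    rw [hn] at e1
    have e2 : n + t.length = n + s.length := by exact_mod_cast e1
    omega

section Transfer

variable {S : Type v} [CommRing S]

theorem isCatenary_of_embedding (φ : PrimeSpectrum S ↪o PrimeSpectrum R) (hφ : (Set.range φ).OrdConnected)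
    (h : CAlg.IsCatenary R) : CAlg.IsCatenary S := by
  refine ⟨fun p q hpq => ?_, fun s t h1 h2 hs ht => ?_⟩
  · obtain ⟨n, hn⟩ := h.1 (φ p) (φ q) (φ.monotone hpq)
    exact ⟨n, fun s h1 h2 => hn (s.map φ φ.strictMono) (congrArg φ h1) (congrArg φ h2)⟩
  · exact h.2 (s.map φ φ.strictMono) (t.map φ φ.strictMono) (congrArg φ h1) (congrArg φ h2)
      (fun i => (hs i).image φ hφ) (fun i => (ht i).image φ hφ)

/-- The embedding of spectra along a surjection. -/
def surjEmb (f : R →+* S) (hf : Function.Surjective f) : PrimeSpectrum S ↪o PrimeSpectrum R :=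
  OrderEmbedding.ofMapLEIff (PrimeSpectrum.comap f) fun a b => by
    rw [← PrimeSpectrum.asIdeal_le_asIdeal, ← PrimeSpectrum.asIdeal_le_asIdeal]
    exact ⟨fun h => by
      have := Ideal.map_mono (f := f) h
      simp only [PrimeSpectrum.comap_asIdeal, Ideal.map_comap_of_surjective f hf] at this
      exact this, fun h => Ideal.comap_mono h⟩

theorem mem_range_surjEmb (f : R →+* S) (hf : Function.Surjective f) (p : PrimeSpectrum R) :
    p ∈ Set.range (surjEmb f hf) ↔ RingHom.ker f ≤ p.asIdeal := by
  refine ⟨?_, fun hp => ⟨⟨p.asIdeal.map f, Ideal.map_isPrime_of_surjective hf hp⟩, PrimeSpectrum.ext ?_⟩⟩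
  · rintro ⟨q, rfl⟩
    exact Ideal.ker_le_comap f
  · change (p.asIdeal.map f).comap f = p.asIdeal
    rw [Ideal.comap_map_of_surjective f hf]
    exact sup_eq_left.mpr hp

theorem ordConnected_surjEmb (f : R →+* S) (hf : Function.Surjective f) :
    (Set.range (surjEmb f hf)).OrdConnected :=
  ⟨fun _ hx _ _ _ hz => (mem_range_surjEmb f hf _).mpr (((mem_range_surjEmb f hf _).mp hx).trans hz.1)⟩

theorem isCatenary_of_surjective (f : R →+* S) (hf : Function.Surjective f) (h : CAlg.IsCatenary R) :
    CAlg.IsCatenary S :=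
  isCatenary_of_embedding (surjEmb f hf) (ordConnected_surjEmb f hf) h

/-- The embedding of spectra along a localisation. -/
def locEmb (M : Submonoid R) [Algebra R S] [IsLocalization M S] : PrimeSpectrum S ↪o PrimeSpectrum R :=
  OrderEmbedding.ofMapLEIff (PrimeSpectrum.comap (algebraMap R S)) fun a b => by
    rw [← PrimeSpectrum.asIdeal_le_asIdeal, ← PrimeSpectrum.asIdeal_le_asIdeal]
    exact ⟨fun h => by
      have := Ideal.map_mono (f := algebraMap R S) h
      simp only [PrimeSpectrum.comap_asIdeal] at this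
      rwa [← Ideal.under_def R, ← Ideal.under_def R, IsLocalization.map_under M, IsLocalization.map_under M] at this,
      fun h => Ideal.comap_mono h⟩

theorem ordConnected_locEmb (M : Submonoid R) [Algebra R S] [IsLocalization M S] :
    (Set.range (locEmb (S := S) M)).OrdConnected := by
  constructor
  intro x _ y hy z hz
  obtain ⟨q, rfl⟩ := hy
  have hr := PrimeSpectrum.localization_comap_range S M
  have hq : (M : Set R) ∩ (locEmb (S := S) M q).asIdeal = ∅ ∨ True := Or.inr trivial
  change z ∈ Set.range (PrimeSpectrum.comap (algebraMap R S))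
  have hq' : (locEmb (S := S) M q) ∈ Set.range (PrimeSpectrum.comap (algebraMap R S)) := ⟨q, rfl⟩
  rw [hr] at hq' ⊢
  exact hq'.mono_right hz.2

theorem isCatenary_of_isLocalization (M : Submonoid R) [Algebra R S] [IsLocalization M S]
    (h : CAlg.IsCatenary R) : CAlg.IsCatenary S :=
  isCatenary_of_embedding (locEmb M) (ordConnected_locEmb M) h

theorem orderHeight_locEmb (M : Submonoid R) [Algebra R S] [IsLocalization M S] (p : PrimeSpectrum S) :
    (locEmb (S := S) M p).asIdeal.height = p.asIdeal.height :=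
  IsLocalization.height_under M p.asIdeal

theorem HeightCat.of_isLocalization (M : Submonoid R) [Algebra R S] [IsLocalization M S] (h : HeightCat R) :
    HeightCat S := fun p q hpq => by
  rw [← orderHeight_locEmb M p, ← orderHeight_locEmb M q]
  exact h _ _ (hpq.image (locEmb M) (ordConnected_locEmb M))

end Transfer

/-- A ring is catenary if all its quotients by minimal primes are. -/
theorem isCatenary_of_forall_minimalPrimes (h : ∀ P ∈ minimalPrimes R, CAlg.IsCatenary (R ⧸ P)) :
    CAlg.IsCatenary R := by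
  have key : ∀ a : PrimeSpectrum R, ∃ (P : Ideal R) (_ : P ∈ minimalPrimes R),
      ∀ b, a ≤ b → b ∈ Set.range (surjEmb (Ideal.Quotient.mk P) Ideal.Quotient.mk_surjective) := fun a => by
    obtain ⟨P, hP, hPa⟩ := Ideal.exists_minimalPrimes_le (I := ⊥) (J := a.asIdeal) bot_le
    exact ⟨P, hP, fun b hb => (mem_range_surjEmb _ _ b).mpr
      (Ideal.mk_ker.trans_le (hPa.trans hb))⟩
  refine ⟨fun p q hpq => ?_, fun s t h1 h2 hs ht => ?_⟩
  · obtain ⟨P, hP, hr⟩ := key p
    obtain ⟨p', rfl⟩ := hr p le_rfl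
    obtain ⟨q', rfl⟩ := hr q hpq
    let φ := surjEmb (Ideal.Quotient.mk P) Ideal.Quotient.mk_surjective
    obtain ⟨n, hn⟩ := (h P hP).1 p' q' (φ.le_iff_le.mp hpq)
    refine ⟨n, fun s hs1 hs2 => ?_⟩
    have hmem : ∀ i, ∃ x, φ x = s i := fun i => hr (s i) (hs1 ▸ s.monotone (Fin.zero_le i))
    choose g hg using hmem
    exact hn (LTSeries.mk s.length g fun i j hij => φ.lt_iff_lt.mp (by rw [hg, hg]; exact s.strictMono hij))
      (φ.injective ((hg 0).trans hs1)) (φ.injective ((hg _).trans hs2))
  · obtain ⟨P, hP, hr⟩ := key s.head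
    let φ := surjEmb (Ideal.Quotient.mk P) Ideal.Quotient.mk_surjective
    have hms : ∀ i, ∃ x, φ x = s i := fun i => hr (s i) (s.monotone (Fin.zero_le i))
    have hmt : ∀ i, ∃ x, φ x = t i := fun i => hr (t i) (h1 ▸ t.monotone (Fin.zero_le i))
    choose g hg using hms
    choose g' hg' using hmt
    exact (h P hP).2
      (LTSeries.mk s.length g fun i j hij => φ.lt_iff_lt.mp (by rw [hg, hg]; exact s.strictMono hij))
      (LTSeries.mk t.length g' fun i j hij => φ.lt_iff_lt.mp (by rw [hg', hg']; exact t.strictMono hij))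
      (φ.injective ((hg 0).trans (h1.trans (hg' 0).symm)))
      (φ.injective ((hg _).trans (h2.trans (hg' _).symm)))
      (fun i => CovBy.of_image φ (by
        convert hs i using 1 <;> exact hg _))
      (fun i => CovBy.of_image φ (by
        convert ht i using 1 <;> exact hg' _))

/-- In a catenary ring the height criterion only needs long chains from the minimal primes. -/
theorem heightCat_of_series [IsNoetherianRing R] (hcat : CAlg.IsCatenary R)
    (h : ∀ m q : PrimeSpectrum R, IsMin m → m ≤ q → ∃ s : LTSeries (PrimeSpectrum R),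
      s.head = m ∧ s.last = q ∧ q.asIdeal.height ≤ s.length) : HeightCat R := by
  intro p q hpq
  obtain ⟨P, hP, hPp⟩ := Ideal.exists_minimalPrimes_le (I := ⊥) (J := p.asIdeal) bot_le
  let m : PrimeSpectrum R := ⟨P, hP.isPrime⟩
  have hm : IsMin m := fun r hr => hP.2 ⟨r.2, bot_le⟩ hr
  have key : ∀ r, m ≤ r → ∃ (n : ℕ) (s : LTSeries (PrimeSpectrum R)), r.asIdeal.height = n ∧ s.length = n ∧
      s.head = m ∧ s.last = r ∧ ∀ i : Fin s.length, s i.castSucc ⋖ s i.succ := by
    intro r hr
    obtain ⟨s₀, h1, h2, h3⟩ := h m r hm hr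
    obtain ⟨N, hN⟩ := hcat.1 m r hr
    obtain ⟨s, e1, e2, e3, e4⟩ := CompSections.exists_saturated_of_bounded hN s₀ h1 h2
    refine ⟨s.length, s, le_antisymm (h3.trans (by exact_mod_cast e3)) ?_, rfl, e1, e2, e4⟩
    rw [← e2]
    exact length_le_height s
  obtain ⟨a, s, hpa, hsa, s1, s2, s3⟩ := key p hPp
  obtain ⟨b, t, hqb, htb, t1, t2, t3⟩ := key q (le_trans hPp hpq.le)
  let u : LTSeries (PrimeSpectrum R) := ⟨1, ![p, q], fun i => by fin_cases i; exact hpq.lt⟩
  have hsu : s.last = u.head := s2
  have := hcat.2 t (s.smash u hsu) (t1.trans (by rw [RelSeries.head_smash, s1]))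
    (t2.trans (by rw [RelSeries.last_smash]; rfl)) t3 (Fin.addCases
      (fun i => (RelSeries.smash_castAdd hsu i).symm ▸ (RelSeries.smash_succ_castAdd hsu i).symm ▸ s3 i)
      (fun i => (RelSeries.smash_natAdd hsu i).symm ▸ (RelSeries.smash_succ_natAdd hsu i).symm ▸
        (show u i.castSucc ⋖ u i.succ from by change Fin 1 at i; fin_cases i; exact hpq)))
  rw [hqb, hpa, ← htb, this, RelSeries.smash_length, hsa]
  exact Nat.cast_add a 1

/-- A catenary equidimensional local ring. -/
theorem heightCat_of_equidim [IsNoetherianRing R] [IsLocalRing R] (hcat : CAlg.IsCatenary R)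
    (heq : ∀ P ∈ minimalPrimes R, ringKrullDim (R ⧸ P) = ringKrullDim R) : HeightCat R := by
  refine heightCat_of_series hcat fun m q hm hmq => ?_
  let mx := IsLocalRing.closedPoint R
  have hqx : q ≤ mx := IsLocalRing.le_maximalIdeal q.2.ne_top
  have hmin : m.asIdeal ∈ minimalPrimes R :=
    ⟨⟨m.2, bot_le⟩, fun r ⟨hr, _⟩ h => hm (b := ⟨r, hr⟩) h⟩
  obtain ⟨d, hd⟩ := ENat.ne_top_iff_exists.mp (Hironaka.coheight_ne_top m)
  obtain ⟨S, hS0, hSl⟩ := Order.exists_series_of_le_coheight m hd.le
  obtain ⟨hSlast, hSsat⟩ := Hironaka.series_last_and_saturated (s := S) (by rw [hS0, hSl, hd])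
  obtain ⟨N₁, hN₁⟩ := hcat.1 m q hmq
  obtain ⟨N₂, hN₂⟩ := hcat.1 q mx hqx
  have hex : ∀ {a b : PrimeSpectrum R}, a ≤ b → ∃ s : LTSeries (PrimeSpectrum R), s.head = a ∧ s.last = b := by
    intro a b hab
    rcases hab.eq_or_lt with rfl | hlt
    · exact ⟨RelSeries.singleton _ a, rfl, rfl⟩
    · exact ⟨⟨1, ![a, b], fun i => by fin_cases i; exact hlt⟩, rfl, rfl⟩
  obtain ⟨a₀, ha₀, hb₀⟩ := hex hmq
  obtain ⟨a, ha, hb, -, hasat⟩ := CompSections.exists_saturated_of_bounded hN₁ a₀ ha₀ hb₀
  obtain ⟨c₀, hc₀, hd₀⟩ := hex hqx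
  obtain ⟨c, hc, hd', -, hcsat⟩ := CompSections.exists_saturated_of_bounded hN₂ c₀ hc₀ hd₀
  refine ⟨a, ha, hb, ?_⟩
  have hlen : a.length + c.length = d := by
    rw [← hSl]
    refine hcat.2 (a.smash c (hb.trans hc.symm)) S (by rw [RelSeries.head_smash, ha, hS0])
      (by rw [RelSeries.last_smash, hd', hSlast]) (Fin.addCases (fun i => ?_) fun i => ?_) hSsat
    · exact (RelSeries.smash_castAdd _ i).symm ▸ (RelSeries.smash_succ_castAdd _ i).symm ▸ hasat i
    · exact (RelSeries.smash_natAdd _ i).symm ▸ (RelSeries.smash_succ_natAdd _ i).symm ▸ hcsat i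
  obtain ⟨k, hk⟩ := exists_height_eq q
  obtain ⟨w, hwl, hwk⟩ := q.asIdeal.exists_ltSeries_length_eq_height
  rw [hk] at hwk
  have hwk' : w.length = k := by exact_mod_cast hwk
  have hle := Order.LTSeries.length_le_krullDim (w.smash c (hwl.trans hc.symm))
  change _ ≤ ringKrullDim R at hle
  rw [← heq m.asIdeal hmin, ← Hironaka.coheight_eq_ringKrullDim_quotient m, ← hd, RelSeries.smash_length,
    hwk'] at hle
  have hle' : k + c.length ≤ d := by exact_mod_cast hle
  rw [hk]
  exact_mod_cast (show k ≤ a.length by omega)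

/-- A `HeightCat` local ring is equidimensional. -/
theorem HeightCat.equidim [IsNoetherianRing R] [IsLocalRing R] (h : HeightCat R) :
    ∀ P ∈ minimalPrimes R, ringKrullDim (R ⧸ P) = ringKrullDim R := by
  intro P hP
  have := hP.isPrime
  let m : PrimeSpectrum R := ⟨P, hP.isPrime⟩
  obtain ⟨d, hd⟩ := ENat.ne_top_iff_exists.mp (Hironaka.coheight_ne_top m)
  obtain ⟨S, hS0, hSl⟩ := Order.exists_series_of_le_coheight m hd.le
  obtain ⟨hSlast, hSsat⟩ := Hironaka.series_last_and_saturated (s := S) (by rw [hS0, hSl, hd])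
  have e := h.height_last d S hSl hSsat
  rw [hS0, hSlast, show m.asIdeal.height = 0 from (Ideal.height_eq_zero_iff (I := P)).mpr hP, zero_add, hd] at e
  rw [← Hironaka.coheight_eq_ringKrullDim_quotient m, ← e, ← IsLocalRing.maximalIdeal_height_eq_ringKrullDim]
  rfl

end Groth.Agent.Catenary
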