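import Groth.Agent.Catenary.Complete
import Groth.Agent.S0547
import Mathlib.RingTheory.Ideal.MinimalPrime.Noetherian

/-!
# Equidimensional quotients and completions
-/

universe u

open IsLocalRing

namespace Groth.Agent.Catenary

theorem isEquidim_iff_of_surjective {R S : Type u} [CommRing R] [CommRing S] (f : R →+* S)
    (hf : Function.Surjective f) :
    EGA4.IsEquidim S ↔ ∀ P ∈ (RingHom.ker f).minimalPrimes, ringKrullDim (R ⧸ P) = ringKrullDim S := by
  have hk : (RingHom.ker f).minimalPrimes = Ideal.comap f '' minimalPrimes S := by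
    rw [RingHom.ker_eq_comap_bot, Ideal.comap_minimalPrimes_eq_of_surjective hf]
  have hd : ∀ P : Ideal S, ringKrullDim (R ⧸ P.comap f) = ringKrullDim (S ⧸ P) := fun P =>
    ringKrullDim_eq_of_ringEquiv ((Ideal.quotEquivOfEq
      (by rw [← RingHom.comap_ker, Ideal.mk_ker])).trans
      (RingHom.quotientKerEquivOfSurjective (f := (Ideal.Quotient.mk P).comp f)
        (Ideal.Quotient.mk_surjective.comp hf)))
  rw [hk, Set.forall_mem_image]
  simp only [hd]
  rfl

theorem HeightCat.height_add_dim {R : Type u} [CommRing R] [IsNoetherianRing R] [IsLocalRing R] (h : HeightCat R)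
    (P : Ideal R) [P.IsPrime] : (P.height : WithBot ℕ∞) + ringKrullDim (R ⧸ P) = ringKrullDim R := by
  let m : PrimeSpectrum R := ⟨P, ‹_›⟩
  obtain ⟨d, hd⟩ := ENat.ne_top_iff_exists.mp (Hironaka.coheight_ne_top m)
  obtain ⟨S, hS0, hSl⟩ := Order.exists_series_of_le_coheight m hd.le
  obtain ⟨hSlast, hSsat⟩ := Hironaka.series_last_and_saturated (s := S) (by rw [hS0, hSl, hd])
  have e := h.height_last d S hSl hSsat
  rw [hS0, hSlast, hd] at e
  rw [← Hironaka.coheight_eq_ringKrullDim_quotient m, ← IsLocalRing.maximalIdeal_height_eq_ringKrullDim,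
    ← WithBot.coe_add]
  exact congrArg WithBot.some e.symm

/-- When the completion is `HeightCat`, a quotient is equidimensional iff formally equidimensional. -/
theorem isEquidim_quotient_iff {A : Type u} [CommRing A] [IsLocalRing A] [IsNoetherianRing A]
    (h : HeightCat (AdicCompletion (maximalIdeal A) A)) (a : Ideal A) [Nontrivial (A ⧸ a)]
    [IsLocalRing (A ⧸ a)] : EGA4.IsEquidim (A ⧸ a) ↔ EGA4.IsFormallyEquidim (A ⧸ a) := by
  let Ah := AdicCompletion (maximalIdeal A) A
  let ι := algebraMap A Ah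
  have := CohenStruct.isNoetherianRing_completion A
  have hsurj := surjective_comap_completion A
  have hA : HeightCat A := h.of_flat hsurj
  obtain ⟨Φ⟩ := exists_completion_quotient_equiv a
  let f : Ah →+* AdicCompletion (maximalIdeal (A ⧸ a)) (A ⧸ a) :=
    Φ.symm.toRingHom.comp (Ideal.Quotient.mk (a.map ι))
  have hf : Function.Surjective f := Φ.symm.surjective.comp Ideal.Quotient.mk_surjective
  have hker : RingHom.ker f = a.map ι := by
    ext x
    rw [RingHom.mem_ker]
    change Φ.symm (Ideal.Quotient.mk (a.map ι) x) = 0 ↔ _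
    rw [map_eq_zero_iff _ Φ.symm.injective, Ideal.Quotient.eq_zero_iff_mem]
  rw [EGA4.IsFormallyEquidim, isEquidim_iff_of_surjective f hf, hker,
    isEquidim_iff_of_surjective (Ideal.Quotient.mk a) Ideal.Quotient.mk_surjective, Ideal.mk_ker,
    S0547.result (A ⧸ a)]
  have hdim : ∀ (P : Ideal Ah) [P.IsPrime], P ∈ ((P.comap ι).map ι).minimalPrimes →
      ringKrullDim (Ah ⧸ P) = ringKrullDim (A ⧸ P.comap ι) := by
    intro P _ hP
    have : P.LiesOver (P.comap ι) := ⟨rfl⟩
    have e : P.height = (P.comap ι).height := DepthLib.height_eq_of_mem_minimalPrimes_map _ P hP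
    have h1 := h.height_add_dim P
    rw [S0547.result A, ← hA.height_add_dim (P.comap ι), e] at h1
    obtain ⟨k, hk⟩ := exists_height_eq (⟨P.comap ι, inferInstance⟩ : PrimeSpectrum A)
    rw [hk] at h1
    obtain ⟨u, hu⟩ := WithBot.ne_bot_iff_exists.mp
      (ne_bot_of_le_ne_bot (by simp) (ringKrullDim_nonneg_of_nontrivial (R := Ah ⧸ P)))
    obtain ⟨w, hw⟩ := WithBot.ne_bot_iff_exists.mp
      (ne_bot_of_le_ne_bot (by simp) (ringKrullDim_nonneg_of_nontrivial (R := A ⧸ P.comap ι)))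
    rw [← hu, ← hw, ← WithBot.coe_add, ← WithBot.coe_add, WithBot.coe_inj,
      (ENat.add_right_injective_of_ne_top (ENat.natCast_ne_top k)).eq_iff] at h1
    rw [← hu, ← hw, h1]
  have hmin : ∀ P ∈ (a.map ι).minimalPrimes,
      P.comap ι ∈ a.minimalPrimes ∧ P ∈ ((P.comap ι).map ι).minimalPrimes := by
    intro P hP
    have := hP.isPrime
    have hap : a ≤ P.comap ι := Ideal.map_le_iff_le_comap.mp hP.le
    refine ⟨⟨⟨inferInstance, hap⟩, fun q ⟨hq, haq⟩ hqP => ?_⟩,
      ⟨⟨inferInstance, Ideal.map_comap_le⟩, fun Q hQ hQP => hP.2 ⟨hQ.1, (Ideal.map_mono hap).trans hQ.2⟩ hQP⟩⟩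
    have : P.LiesOver (P.comap ι) := ⟨rfl⟩
    obtain ⟨Q, hQP, hQ, hQq⟩ := Ideal.exists_ideal_le_liesOver_of_le (p := q) (q := P.comap ι) P hqP
    have hQc : q = Q.comap ι := hQq.over
    have hPQ : P ≤ Q := hP.2 ⟨hQ, Ideal.map_le_iff_le_comap.mpr (haq.trans hQc.le)⟩ hQP
    exact (Ideal.comap_mono hPQ).trans hQc.ge
  constructor
  · intro H P hP
    have := hP.isPrime
    obtain ⟨h1, h2⟩ := hmin P hP
    rw [hdim P h2, H _ h1]
  · intro H p hp
    obtain ⟨Q₀, hQ₀⟩ := hsurj ⟨p, hp.isPrime⟩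
    have hQp : Q₀.asIdeal.comap ι = p := congrArg PrimeSpectrum.asIdeal hQ₀
    obtain ⟨P, hP, hPQ⟩ := Ideal.exists_minimalPrimes_le (I := a.map ι) (J := Q₀.asIdeal)
      (Ideal.map_le_iff_le_comap.mpr (hQp.symm ▸ hp.le))
    have := hP.isPrime
    obtain ⟨h1, h2⟩ := hmin P hP
    have hpp : P.comap ι = p := le_antisymm ((Ideal.comap_mono hPQ).trans hQp.le)
      (hp.2 h1.1 ((Ideal.comap_mono hPQ).trans hQp.le))
    rw [← hpp, ← hdim P h2, H P hP]

theorem cm_completion (A : Type u) [CommRing A] [LocCoh.IsCohenMacaulayLocalRing A] :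
    LocCoh.IsCohenMacaulayLocalRing (AdicCompletion (maximalIdeal A) A) := by
  let Ah := AdicCompletion (maximalIdeal A) A
  have := CohenStruct.isNoetherianRing_completion A
  obtain ⟨d, hd⟩ := DepthLib.exists_nat_depth (R := A) A
  obtain ⟨rs, hlen, hrs, hrsm⟩ := DepthLib.natCast_le_depth_iff.mp hd.ge
  have hreg : RingTheory.Sequence.IsWeaklyRegular Ah (rs.map (algebraMap A Ah)) := hrs.of_flat
  refine DepthLib.isCohenMacaulayLocalRing_iff.mpr ?_
  rw [S0547.result A, DepthLib.ringKrullDim_eq_depth, hd, WithBot.coe_le_coe]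
  refine DepthLib.natCast_le_depth_iff.mpr ⟨_, by rw [List.length_map, hlen], hreg, fun r hr => ?_⟩
  obtain ⟨a, ha, rfl⟩ := List.mem_map.mp hr
  rw [AdicCompletion.maximalIdeal_eq_map]
  exact Ideal.mem_map_of_mem _ (hrsm a ha)

end Groth.Agent.Catenary
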