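import Groth.Agent.Catenary.Complete
import Groth.Agent.Catenary.Equidim
import Groth.Agent.FlatDescent.Local
import Mathlib.RingTheory.RingHom.Flat
import Mathlib.RingTheory.EssentialFiniteness

/-!
# Formal equidimensionality of algebras essentially of finite type

* `cplMap`: functoriality of completion for local homomorphisms, flat for flat ones.
* `isFormallyEquidim_of_flat`: descent along flat local homomorphisms.
* `isFormallyEquidim_of_essFiniteType`: equidimensional ess ft local algebras over formally catenary rings.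
-/

universe u

open IsLocalRing

namespace Groth.Agent.Catenary

variable {C D : Type u} [CommRing C] [CommRing D] [IsLocalRing C] [IsLocalRing D]
  [IsNoetherianRing C] [IsNoetherianRing D]

local notation "Cpl" R => AdicCompletion (maximalIdeal R) R

omit [IsNoetherianRing C] in
theorem map_pow_le_cpl (f : C →+* D) [IsLocalHom f] (n : ℕ) :
    maximalIdeal C ^ n ≤ ((maximalIdeal (Cpl D)) ^ n).comap ((algebraMap D (Cpl D)).comp f) := by
  rw [← Ideal.map_le_iff_le_comap, Ideal.map_pow, ← Ideal.map_map, AdicCompletion.maximalIdeal_eq_map]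
  exact Ideal.pow_right_mono (Ideal.map_mono ((local_hom_TFAE f).out 0 2 |>.mp ‹_›)) n

/-- The components of `cplMap`. -/
noncomputable def cplMapAux (f : C →+* D) [IsLocalHom f] (n : ℕ) :
    (Cpl C) →+* (Cpl D) ⧸ maximalIdeal (Cpl D) ^ n :=
  (Ideal.quotientMap _ ((algebraMap D (Cpl D)).comp f) (map_pow_le_cpl f n)).comp
    (AdicCompletion.evalₐ (maximalIdeal C) n).toRingHom

theorem cplMapAux_compat (f : C →+* D) [IsLocalHom f] {m n : ℕ} (hle : m ≤ n) :
    (Ideal.Quotient.factorPow (maximalIdeal (Cpl D)) hle).comp (cplMapAux f n) = cplMapAux f m := by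
  ext x
  obtain ⟨y, hy⟩ := Ideal.Quotient.mk_surjective (AdicCompletion.evalₐ (maximalIdeal C) n x)
  have h2 : AdicCompletion.evalₐ (maximalIdeal C) m x = Ideal.Quotient.mk _ y := by
    have h : Ideal.Quotient.factorPow (maximalIdeal C) hle (AdicCompletion.evalₐ (maximalIdeal C) n x) =
        AdicCompletion.evalₐ (maximalIdeal C) m x := by
      obtain ⟨c, rfl⟩ := AdicCompletion.mk_surjective _ _ x
      rw [AdicCompletion.evalₐ_mk, AdicCompletion.evalₐ_mk, Ideal.Quotient.factor_mk, Ideal.Quotient.eq]
      have := c.2 hle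
      rw [SModEq.sub_mem, smul_eq_mul, Ideal.mul_top] at this
      rw [← neg_sub]
      exact Submodule.neg_mem _ this
    rw [← h, ← hy]
    rfl
  simp only [cplMapAux, RingHom.comp_apply, AlgHom.toRingHom_eq_coe, RingHom.coe_coe, ← hy, h2]
  rfl

/-- Functoriality of the completion for local homomorphisms. -/
noncomputable def cplMap (f : C →+* D) [IsLocalHom f] : (Cpl C) →+* Cpl D :=
  IsAdicComplete.liftRingHom (maximalIdeal (Cpl D)) (cplMapAux f) (cplMapAux_compat f)

theorem cplMap_algebraMap (f : C →+* D) [IsLocalHom f] (x : C) :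
    cplMap f (algebraMap C (Cpl C) x) = algebraMap D (Cpl D) (f x) := by
  have : IsHausdorff (maximalIdeal (Cpl D)) (Cpl D) := IsAdicComplete.toIsHausdorff
  refine sub_eq_zero.mp (IsHausdorff.haus ‹_› _ fun n => ?_)
  rw [SModEq.sub_mem, sub_zero, smul_eq_mul, Ideal.mul_top, ← Ideal.Quotient.eq_zero_iff_mem, map_sub,
    sub_eq_zero, cplMap, IsAdicComplete.mk_liftRingHom]
  simp [cplMapAux, AdicCompletion.algebraMap_apply]

/-- Formal equidimensionality descends along flat local homomorphisms. -/
theorem isFormallyEquidim_of_flat (f : C →+* D) [IsLocalHom f] (hf : f.Flat)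
    (h : EGA4.IsFormallyEquidim D) : EGA4.IsFormallyEquidim C := by
  have := CohenStruct.isNoetherianRing_completion C
  have := CohenStruct.isNoetherianRing_completion D
  let _ : Algebra C D := f.toAlgebra
  have : Module.Flat C D := hf
  have : Module.Flat C (Cpl D) := Module.Flat.trans C D _
  let _ : Algebra (Cpl C) (Cpl D) := (cplMap f).toAlgebra
  have : IsScalarTower C (Cpl C) (Cpl D) := IsScalarTower.of_algebraMap_eq fun x => by
    change algebraMap C (Cpl D) x = cplMap f (algebraMap C (Cpl C) x)
    rw [cplMap_algebraMap, IsScalarTower.algebraMap_apply C D (Cpl D)]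
    rfl
  have hle : ((maximalIdeal C).map (algebraMap C (Cpl C))).map (algebraMap (Cpl C) (Cpl D)) ≤
      maximalIdeal (Cpl D) := by
    rw [Ideal.map_map, ← IsScalarTower.algebraMap_eq, IsScalarTower.algebraMap_eq C D (Cpl D),
      ← Ideal.map_map, AdicCompletion.maximalIdeal_eq_map]
    exact Ideal.map_mono ((local_hom_TFAE f).out 0 2 |>.mp ‹_›)
  have hmax : ((maximalIdeal C).map (algebraMap C (Cpl C))).IsMaximal := by
    rw [← AdicCompletion.maximalIdeal_eq_map]
    exact maximalIdeal.isMaximal _
  let _ := Ideal.Quotient.field ((maximalIdeal C).map (algebraMap C (Cpl C)))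
  have : Module.Flat ((Cpl C) ⧸ (maximalIdeal C).map (algebraMap C (Cpl C)))
      (TensorProduct (Cpl C) ((Cpl C) ⧸ (maximalIdeal C).map (algebraMap C (Cpl C))) (Cpl D)) :=
    Module.Flat.of_free
  have : Module.Flat (Cpl C) (Cpl D) := FlatDescent.flat_of_flat_fibre (S := Cpl C) (S' := Cpl D) (M := Cpl D)
    (maximalIdeal C) (hle.trans (maximalIdeal_le_jacobson ⊥))
  have : IsLocalHom (algebraMap (Cpl C) (Cpl D)) := by
    refine ((local_hom_TFAE _).out 0 2).mpr ?_
    rw [AdicCompletion.maximalIdeal_eq_map (R := C)]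
    exact hle
  have : Module.FaithfullyFlat (Cpl C) (Cpl D) := Module.FaithfullyFlat.of_flat_of_isLocalHom
  exact ((heightCat_completion h).of_flat PrimeSpectrum.comap_surjective_of_faithfullyFlat).equidim

theorem isEquidim_of_isDomain (R : Type u) [CommRing R] [IsDomain R] : EGA4.IsEquidim R := by
  intro P hP
  rw [IsDomain.minimalPrimes_eq_singleton_bot, Set.mem_singleton_iff] at hP
  subst hP
  exact ringKrullDim_eq_of_ringEquiv (RingEquiv.quotientBot R)

/-- Formal equidimensionality passes to quotient rings which are equidimensional. -/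
theorem isFormallyEquidim_of_surjective (π : C →+* D) (hπ : Function.Surjective π)
    (hC : HeightCat (Cpl C)) (hD : EGA4.IsEquidim D) : EGA4.IsFormallyEquidim D := by
  let e : C ⧸ RingHom.ker π ≃+* D := RingHom.quotientKerEquivOfSurjective hπ
  have : IsLocalRing (C ⧸ RingHom.ker π) := e.symm.isLocalRing
  have : IsLocalHom e.symm.toRingHom := ⟨fun a h => by
    have := h.map e.toRingHom
    simpa using this⟩
  refine isFormallyEquidim_of_flat e.symm.toRingHom (RingHom.Flat.of_bijective e.symm.bijective)
    ((isEquidim_quotient_iff hC (RingHom.ker π)).mp ?_)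
  rw [isEquidim_iff_of_surjective (Ideal.Quotient.mk _) Ideal.Quotient.mk_surjective, Ideal.mk_ker,
    ringKrullDim_eq_of_ringEquiv e]
  exact (isEquidim_iff_of_surjective π hπ).mp hD

omit [IsLocalRing C] [IsNoetherianRing C] [IsLocalRing D] [IsNoetherianRing D] in
/-- Descent to a localization from a flat cover which is a quotient of a CM ring. -/
theorem isFormallyEquidim_localization_of_cm_cover {R R' R₀ : Type u} [CommRing R] [CommRing R'] [CommRing R₀]
    [IsNoetherianRing R] [IsNoetherianRing R'] [LocCoh.IsCohenMacaulayRing R₀] [Algebra R R'] [Module.Flat R R']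
    (g : R₀ →+* R') (hg : Function.Surjective g) (hR' : HeightCat R') (Q : Ideal R') [Q.IsPrime]
    (q : Ideal R) [q.IsPrime] (hq : q = Q.comap (algebraMap R R')) :
    EGA4.IsFormallyEquidim (Localization.AtPrime q) := by
  let C' := Localization.AtPrime Q
  have hC' : HeightCat C' := hR'.of_isLocalization Q.primeCompl
  let S := Localization.AtPrime (Q.comap g)
  have : LocCoh.IsCohenMacaulayLocalRing S :=
    LocCoh.IsCohenMacaulayRing.isCohenMacaulayLocalRing_localization (Q.comap g)
  have := cm_completion S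
  have hS : EGA4.IsFormallyEquidim C' :=
    isFormallyEquidim_of_surjective (Localization.localRingHom (Q.comap g) Q g rfl)
      (RingHom.surjective_localRingHom_of_surjective g hg Q) (heightCat_of_cm_local (Cpl S)) hC'.equidim
  exact isFormallyEquidim_of_flat (Localization.localRingHom q Q (algebraMap R R') hq)
    (RingHom.Flat.localRingHom (RingHom.flat_algebraMap_iff.mpr inferInstance) _ _ hq) hS

omit [IsLocalRing C] [IsNoetherianRing C] [IsLocalRing D] [IsNoetherianRing D] in
/-- Localizations of polynomial rings over a formally equidimensional ring are formally equidimensional. -/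
theorem isFormallyEquidim_localization_mvPolynomial {A : Type u} [CommRing A] [IsLocalRing A] [IsNoetherianRing A]
    (hA : EGA4.IsFormallyEquidim A) (n : ℕ) (q : Ideal (MvPolynomial (Fin n) A)) [q.IsPrime] :
    EGA4.IsFormallyEquidim (Localization.AtPrime q) := by
  have := CohenStruct.isNoetherianRing_completion A
  have : Module.FaithfullyFlat A (Cpl A) := Module.FaithfullyFlat.of_flat_of_isLocalHom
  let R' := MvPolynomial (Fin n) (Cpl A)
  let _ : Algebra (MvPolynomial (Fin n) A) R' := MvPolynomial.algebraMvPolynomial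
  have e := (Algebra.IsPushout.equiv A (MvPolynomial (Fin n) A) (Cpl A) R').toLinearEquiv
  have : Module.FaithfullyFlat (MvPolynomial (Fin n) A) R' := Module.FaithfullyFlat.of_linearEquiv _ _ e.symm
  obtain ⟨Q, hQ⟩ := PrimeSpectrum.comap_surjective_of_faithfullyFlat (B := R') ⟨q, ‹_›⟩
  have hQ' : q = Q.asIdeal.comap (algebraMap _ R') := (congrArg PrimeSpectrum.asIdeal hQ).symm
  -- `C'` is a quotient of a local CM ring
  obtain ⟨Λ, _, m, f, hΛ, hf⟩ := CohenStruct.exists_surjective (Cpl A) (IsNoetherian.noetherian _)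
  obtain ⟨hd⟩ : Nonempty (IsRegularRing Λ) := by
    rcases hΛ with hF | hC
    · let := hF.toField
      exact ⟨DepthLib.CMPoly.isRegularRing_field Λ⟩
    · obtain ⟨hd, hdvr, -⟩ := hC
      exact ⟨inferInstance⟩
  have := PP16Lib.isRegularRing_mvPowerSeries (A := Λ) m
  have := isCohenMacaulayRing_of_isRegularRing (MvPowerSeries (Fin m) Λ)
  have := isCohenMacaulayRing_mvPolynomial (MvPowerSeries (Fin m) Λ) n
  exact isFormallyEquidim_localization_of_cm_cover (R₀ := MvPolynomial (Fin n) (MvPowerSeries (Fin m) Λ))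
    (R' := R') (MvPolynomial.map f) (MvPolynomial.map_surjective f hf)
    ((heightCat_completion hA).mvPolynomial (isUniversallyCatenary_completion A) n) Q.asIdeal q hQ'

omit [IsLocalRing C] [IsNoetherianRing C] [IsLocalRing D] [IsNoetherianRing D] in
/-- A local domain essentially of finite type over a formally catenary ring is formally equidimensional. -/
theorem isFormallyEquidim_of_essFiniteType_domain {A : Type u} [CommRing A] [IsLocalRing A] [IsNoetherianRing A]
    (hA : EGA4.IsFormallyCatenary A) (B : Type u) [CommRing B] [IsDomain B] [IsLocalRing B] [IsNoetherianRing B]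
    [Algebra A B] [Algebra.EssFiniteType A B] : EGA4.IsFormallyEquidim B := by
  let p := RingHom.ker (algebraMap A B)
  have hp : p.IsPrime := RingHom.ker_isPrime _
  have : IsLocalRing (A ⧸ p) := .of_surjective' (Ideal.Quotient.mk p) Ideal.Quotient.mk_surjective
  let _ : Algebra (A ⧸ p) B := (RingHom.kerLift (algebraMap A B)).toAlgebra
  have : IsScalarTower A (A ⧸ p) B := IsScalarTower.of_algebraMap_eq fun _ => rfl
  have := Algebra.EssFiniteType.of_comp A (A ⧸ p) B
  let T := Algebra.EssFiniteType.subalgebra (A ⧸ p) B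
  obtain ⟨n, g, hg⟩ := Algebra.FiniteType.iff_quotient_mvPolynomial''.mp
    (inferInstance : Algebra.FiniteType (A ⧸ p) T)
  let φ : MvPolynomial (Fin n) (A ⧸ p) →+* B := (algebraMap T B).comp g.toRingHom
  let q := (maximalIdeal B).comap φ
  let R := Localization.AtPrime q
  have hu : ∀ y : q.primeCompl, IsUnit (φ y) := fun y => IsLocalRing.notMem_maximalIdeal.mp y.2
  let ψ : R →+* B := IsLocalization.lift hu
  have hψ : Function.Surjective ψ := by
    intro b
    obtain ⟨⟨x, y⟩, hxy⟩ := IsLocalization.surj (Algebra.EssFiniteType.submonoid (A ⧸ p) B) b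
    have hy : IsUnit (algebraMap T B y) := y.2
    obtain ⟨x', hx'⟩ := hg x
    obtain ⟨y', hy'⟩ := hg y
    have hy'' : φ y' = algebraMap T B y := congrArg (algebraMap T B) hy'
    have hyq : y' ∈ q.primeCompl := fun h => IsLocalRing.notMem_maximalIdeal.mpr hy (hy'' ▸ h)
    refine ⟨IsLocalization.mk' R x' (⟨y', hyq⟩ : q.primeCompl), ?_⟩
    refine (IsLocalization.lift_mk'_spec _ _ _ _).mpr ?_
    change φ x' = φ y' * b
    rw [hy'', show φ x' = algebraMap T B x from congrArg (algebraMap T B) hx', ← hxy, mul_comm]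
  exact isFormallyEquidim_of_surjective ψ hψ
    (heightCat_completion (isFormallyEquidim_localization_mvPolynomial (hA p) n q)) (isEquidim_of_isDomain B)

omit [IsLocalRing C] [IsNoetherianRing C] [IsLocalRing D] [IsNoetherianRing D] in
/-- An equidimensional local algebra essentially of finite type over a formally catenary ring is
formally equidimensional. -/
theorem isFormallyEquidim_of_essFiniteType {A : Type u} [CommRing A] [IsLocalRing A] [IsNoetherianRing A]
    (hA : EGA4.IsFormallyCatenary A) (B : Type u) [CommRing B] [IsLocalRing B] [IsNoetherianRing B]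
    [Algebra A B] [Algebra.EssFiniteType A B] (hB : EGA4.IsEquidim B) : EGA4.IsFormallyEquidim B := by
  have := CohenStruct.isNoetherianRing_completion B
  let ι := algebraMap B (Cpl B)
  intro Q hQ
  have := hQ.isPrime
  let P := Q.comap ι
  have hP : P ∈ minimalPrimes B := by
    refine ⟨⟨inferInstance, bot_le⟩, fun p ⟨hp, _⟩ hle => ?_⟩
    have : Q.LiesOver P := ⟨rfl⟩
    obtain ⟨Q', hQ'Q, hQ', hQ'p⟩ := Ideal.exists_ideal_le_liesOver_of_le (p := p) (q := P) Q hle
    exact (Ideal.comap_mono (hQ.2 ⟨hQ', bot_le⟩ hQ'Q)).trans hQ'p.over.ge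
  have : IsLocalRing (B ⧸ P) := .of_surjective' (Ideal.Quotient.mk P) Ideal.Quotient.mk_surjective
  have : Algebra.EssFiniteType A (B ⧸ P) := Algebra.EssFiniteType.comp A B (B ⧸ P)
  have hF : EGA4.IsFormallyEquidim (B ⧸ P) := isFormallyEquidim_of_essFiniteType_domain hA (B ⧸ P)
  obtain ⟨Φ⟩ := exists_completion_quotient_equiv P
  let f : (Cpl B) →+* Cpl (B ⧸ P) := Φ.symm.toRingHom.comp (Ideal.Quotient.mk (P.map ι))
  have hf : Function.Surjective f := Φ.symm.surjective.comp Ideal.Quotient.mk_surjective
  have hker : RingHom.ker f = P.map ι := by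
    ext x
    rw [RingHom.mem_ker]
    change Φ.symm (Ideal.Quotient.mk (P.map ι) x) = 0 ↔ _
    rw [map_eq_zero_iff _ Φ.symm.injective, Ideal.Quotient.eq_zero_iff_mem]
  have hQ' : Q ∈ (RingHom.ker f).minimalPrimes := by
    rw [hker]
    exact ⟨⟨inferInstance, Ideal.map_comap_le⟩, fun J hJ hJQ => hQ.2 ⟨hJ.1, bot_le⟩ hJQ⟩
  rw [(isEquidim_iff_of_surjective f hf).mp hF Q hQ', S0547.result (B ⧸ P), hB P hP, S0547.result B]

end Groth.Agent.Catenary
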