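import Groth.Agent.Catenary.Equidim
import Groth.Agent.GeomUnib.CatenaryFormula
import Mathlib.RingTheory.PolynomialAlgebra
import Mathlib.RingTheory.Flat.EquationalCriterion

/-!
# Ratliff: universally catenary local rings are formally catenary

The key case is a domain `A` of dimension `d ≥ 2` with an isolated point `q` of the punctured spectrum
of the completion `H`.  The idempotent of `q` gives `β / x ^ N ∈ H[1/x]`; its `A`-approximation
`s = a / x ^ N` generates an extension `A[s]` in which, seen in `H[T]`, a maximal ideal sits at distance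
one from the only minimal prime below it, which contradicts the dimension formula.
-/

set_option autoImplicit false

universe u

open IsLocalRing Polynomial

namespace Groth.Agent.Catenary

/-- Flat maps commute with colons, element form. -/
theorem mem_map_of_mul_mem {A H : Type u} [CommRing A] [CommRing H] [Algebra A H] [Module.Flat A H]
    {r : ℕ} (g : Fin r → A) (y : A) (β : H)
    (h : ∀ i, algebraMap A H (g i) * β ∈ Ideal.span {algebraMap A H y}) (K : Ideal A)
    (hK : ∀ c : A, (∀ i, g i * c ∈ Ideal.span {y}) → c ∈ K) :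
    β ∈ K.map (algebraMap A H) := by
  choose hh hhh using fun i => Ideal.mem_span_singleton'.mp (h i)
  let x : (A × (Fin r → A)) →ₗ[A] H :=
    (LinearMap.toSpanSingleton A H β).coprod (Fintype.linearCombination A hh)
  let f : (Fin r → A) →ₗ[A] (A × (Fin r → A)) := Fintype.linearCombination A fun i => (g i, -Pi.single i y)
  have hxf : x ∘ₗ f = 0 := by
    refine LinearMap.pi_ext' fun i => LinearMap.ext_ring ?_
    simp only [LinearMap.comp_apply, LinearMap.coe_single, LinearMap.zero_apply]
    rw [Fintype.linearCombination_apply_single, one_smul]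
    simp only [x, LinearMap.coprod_apply, LinearMap.toSpanSingleton_apply, map_neg,
      Fintype.linearCombination_apply_single, Algebra.smul_def]
    rw [← hhh i]
    ring
  obtain ⟨k, a, b, hab, haf⟩ := Module.Flat.exists_factorization_of_comp_eq_zero_of_free hxf
  have hβ : β = b (a (1, 0)) := by
    rw [← LinearMap.comp_apply, ← hab]
    simp [x]
  have hc : ∀ j, a (1, 0) j ∈ K := fun j => hK _ fun i => by
    have := LinearMap.congr_fun haf (Pi.single i 1)
    rw [LinearMap.comp_apply, Fintype.linearCombination_apply_single, one_smul, LinearMap.zero_apply] at this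
    have e : ((g i, -Pi.single i y) : A × (Fin r → A)) = g i • ((1 : A), (0 : Fin r → A)) - y • (0, Pi.single i 1) := by
      ext <;> simp [Pi.single_apply]
    rw [e, map_sub, map_smul, map_smul, sub_eq_zero] at this
    have h2 := congrArg (fun v => v j) this
    simp only [Finsupp.smul_apply, smul_eq_mul] at h2
    rw [h2]
    exact Ideal.mul_mem_right _ _ (Ideal.mem_span_singleton_self y)
  rw [hβ, ← Finsupp.univ_sum_single (a (1, 0)), map_sum]
  refine Ideal.sum_mem _ fun j _ => ?_
  rw [show Finsupp.single j (a (1, 0) j) = a (1, 0) j • Finsupp.single j (1 : A) by simp, map_smul, Algebra.smul_def]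
  exact Ideal.mul_mem_right _ _ (Ideal.mem_map_of_mem _ (hc j))

/-- Primes of `A[T]` above the maximal ideal and a prime of height at most one: a universally catenary
local domain sees distance at least `dim A`. -/
theorem le_height_map_quotient {A : Type u} [CommRing A] [IsDomain A] [IsLocalRing A]
    (hA : CAlg.IsUniversallyCatenary A) (P N : Ideal A[X]) [P.IsPrime] [N.IsMaximal]
    (hP : P.comap C = ⊥) (hN : N.comap C = maximalIdeal A) (hPN : P ≤ N)
    [(N.map (Ideal.Quotient.mk P)).IsPrime] :
    ringKrullDim A ≤ (N.map (Ideal.Quotient.mk P)).height := by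
  haveI := hA.1
  have hcat : CAlg.IsCatenary A[X] := hA.2 _ inferInstance
  let L := Localization.AtPrime N
  have : IsDomain L := IsLocalization.isDomain_localization N.primeCompl_le_nonZeroDivisors
  have hL : HeightCat L := heightCat_of_equidim (isCatenary_of_isLocalization N.primeCompl hcat)
    fun Q hQ => by
      rw [IsDomain.minimalPrimes_eq_singleton_bot] at hQ
      rw [Set.mem_singleton_iff.1 hQ]
      exact ringKrullDim_eq_of_ringEquiv (RingEquiv.quotientBot L)
  have h1 := GeomUnib.height_eq_add N.primeCompl hL P N hPN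
    (Set.disjoint_left.mpr fun _ h1 h2 => h1 h2)
  have : N.LiesOver (maximalIdeal A) := ⟨hN.symm⟩
  rw [Polynomial.height_eq_height_add_one (maximalIdeal A) N] at h1
  have hP1 : P.height ≤ 1 := by
    let K := FractionRing A
    let _ : Algebra A[X] K[X] := (Polynomial.mapRingHom (algebraMap A K)).toAlgebra
    have : IsLocalization ((nonZeroDivisors A).map C) K[X] := Polynomial.isLocalization _ K
    have hd : Disjoint (((nonZeroDivisors A).map C : Submonoid A[X]) : Set A[X]) P :=
      Set.disjoint_left.mpr fun z hz hzP => by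
        obtain ⟨c, hc, rfl⟩ := hz
        have : c ∈ P.comap C := hzP
        rw [hP, Ideal.mem_bot] at this
        exact nonZeroDivisors.ne_zero hc this
    rw [← IsLocalization.height_map_of_disjoint ((nonZeroDivisors A).map C) (S := K[X]) P hd]
    have hne : (P.map (algebraMap A[X] K[X])) ≠ ⊤ :=
      (IsLocalization.isPrime_of_isPrime_disjoint _ K[X] P inferInstance hd).ne_top
    have := Ideal.height_le_ringKrullDim_of_ne_top hne
    rw [Polynomial.ringKrullDim_of_isNoetherianRing, ringKrullDim_eq_zero_of_field, zero_add] at this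
    exact_mod_cast this
  rw [← IsLocalRing.maximalIdeal_height_eq_ringKrullDim, WithBot.coe_le_coe]
  refine (ENat.add_le_add_iff_right (ENat.natCast_ne_top 1)).mp ?_
  rw [Nat.cast_one, h1, add_comm P.height]
  exact add_le_add le_rfl hP1

variable {A : Type u} [CommRing A] [IsDomain A] [IsLocalRing A] [IsNoetherianRing A]

local notation "H" => AdicCompletion (maximalIdeal A) A

/-- Elements of `A` other than zero are outside the minimal primes of the completion. -/
theorem notMem_minimalPrimes_completion {q : Ideal H} (hq : q ∈ minimalPrimes H) {x : A} (hx : x ≠ 0) :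
    algebraMap A H x ∉ q := by
  haveI := hq.isPrime
  intro hxq
  have : q.LiesOver (q.under A) := ⟨rfl⟩
  obtain ⟨P, hPq, hP, hP0⟩ := Ideal.exists_ideal_le_liesOver_of_le (p := (⊥ : Ideal A)) (q := q.under A) q bot_le
  have h1 : q ≤ P := hq.2 ⟨hP, bot_le⟩ hPq
  have h2 : x ∈ P.under A := h1 hxq
  rw [← hP0.over, Ideal.mem_bot] at h2
  exact hx h2

theorem exists_sub_mem_pow (z : H) (k : ℕ) : ∃ b : A, z - algebraMap A H b ∈ maximalIdeal H ^ k := by
  obtain ⟨b, hb⟩ := PP16Lib.exists_sub_mem_map_pow (maximalIdeal A) k z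
  refine ⟨b, ?_⟩
  rw [AdicCompletion.maximalIdeal_eq_map, ← Ideal.map_pow, ← neg_sub]
  exact neg_mem hb

/-- An isolated point of the punctured spectrum of the completion forces dimension at most one. -/
theorem ringKrullDim_le_one_of_isolated (hA : CAlg.IsUniversallyCatenary A) (q : Ideal H)
    (hq : q ∈ minimalPrimes H) (hdim : ringKrullDim (H ⧸ q) ≤ 1) : ringKrullDim A ≤ 1 := by
  classical
  by_cases hfield : maximalIdeal A = ⊥
  · rw [← IsLocalRing.maximalIdeal_height_eq_ringKrullDim, hfield]
    simp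
  haveI := CohenStruct.isNoetherianRing_completion A
  haveI : q.IsPrime := hq.isPrime
  let ι := algebraMap A H
  let mH := maximalIdeal H
  have hmH : mH = (maximalIdeal A).map ι := AdicCompletion.maximalIdeal_eq_map
  obtain ⟨x, hxm, hx0⟩ := (maximalIdeal A).ne_bot_iff.mp hfield
  have hxq := notMem_minimalPrimes_completion hq hx0
  have hXm : ι x ∈ mH := hmH ▸ Ideal.mem_map_of_mem _ hxm
  -- `q` is isolated
  have habove : ∀ P : Ideal H, P.IsPrime → q ≤ P → P = q ∨ P = mH := by
    intro P hP hqP
    by_contra hne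
    push Not at hne
    let p₀ : PrimeSpectrum H := ⟨q, inferInstance⟩
    let p₁ : PrimeSpectrum H := ⟨P, hP⟩
    have h01 : p₀ < p₁ := lt_of_le_of_ne hqP fun e => hne.1 (congrArg PrimeSpectrum.asIdeal e).symm
    have h12 : p₁ < closedPoint H := lt_of_le_of_ne (le_maximalIdeal hP.ne_top)
      fun e => hne.2 (congrArg PrimeSpectrum.asIdeal e)
    let w : LTSeries (PrimeSpectrum H) := ((RelSeries.singleton _ (closedPoint H)).cons p₁ h12).cons p₀
      (by rw [RelSeries.head_cons]; exact h01)
    have h2 := Order.length_le_coheight_head (p := w)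
    rw [← Hironaka.coheight_eq_ringKrullDim_quotient p₀] at hdim
    have h3 : Order.coheight p₀ ≤ 1 := by exact_mod_cast hdim
    rw [RelSeries.head_cons] at h2
    have h4 := h2.trans h3
    simp [w] at h4
  -- the component of `q`
  let a : Ideal H := RingHom.ker (algebraMap H (Localization.AtPrime q))
  obtain ⟨s, hsq, hsa⟩ : ∃ s, s ∉ q ∧ ∀ y ∈ a, s * y = 0 := by
    obtain ⟨G, hG⟩ := (IsNoetherian.noetherian a : a.FG)
    have : ∀ y ∈ G, ∃ s, s ∉ q ∧ s * y = 0 := fun y hy => by
      have hy' : algebraMap H (Localization.AtPrime q) y = 0 := (hG ▸ Submodule.subset_span hy : y ∈ a)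
      obtain ⟨⟨s, hs⟩, hs'⟩ := (IsLocalization.map_eq_zero_iff q.primeCompl _ y).mp hy'
      exact ⟨s, hs, hs'⟩
    choose! σ hσ1 hσ2 using this
    refine ⟨∏ y ∈ G, σ y, fun h => ?_, fun y hy => ?_⟩
    · obtain ⟨y, hy, h'⟩ := (Ideal.IsPrime.prod_mem_iff).mp h
      exact hσ1 y hy h'
    · rw [← hG] at hy
      induction hy using Submodule.span_induction with
      | mem z hz =>
        rw [← Finset.mul_prod_erase _ _ hz, mul_comm (σ z), mul_assoc, hσ2 z hz, mul_zero]
      | zero => rw [mul_zero]
      | add z w _ _ h1 h2 => rw [mul_add, h1, h2, add_zero]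
      | smul c z _ h1 => rw [smul_eq_mul, mul_left_comm, h1, mul_zero]
  have haq : a ≤ q := fun y hy => by
    by_contra hyq
    exact ((IsLocalization.map_units (Localization.AtPrime q) (⟨y, hyq⟩ : q.primeCompl)).ne_zero)
      (RingHom.mem_ker.mp hy)
  have ha_above : ∀ P : Ideal H, P.IsPrime → a ≤ P → q ≤ P := fun P hP haP y hy => by
    haveI : Ring.KrullDimLE 0 (Localization.AtPrime q) := by
      rw [Ring.krullDimLE_iff, IsLocalization.AtPrime.ringKrullDim_eq_height q,
        Ideal.height_eq_zero_iff.mpr hq]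
      simp
    obtain ⟨n, hn⟩ : IsNilpotent (algebraMap H (Localization.AtPrime q) y) := by
      rw [Ring.KrullDimLE.isNilpotent_iff_mem_maximalIdeal]
      exact (IsLocalization.AtPrime.to_map_mem_maximal_iff _ q y).mpr hy
    rw [← map_pow] at hn
    exact hP.mem_of_pow_mem n (haP hn)
  obtain ⟨k, hk⟩ : ∃ k, mH ^ k ≤ a ⊔ Ideal.span {s} := by
    refine Ideal.exists_pow_le_of_le_radical_of_fg ?_ (IsNoetherian.noetherian mH)
    rw [Ideal.radical_eq_sInf]
    refine le_sInf fun P ⟨hle, hP⟩ => ?_
    rcases habove P hP (ha_above P hP (le_sup_left.trans hle)) with rfl | rfl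
    · exact absurd (hle (Ideal.mem_sup_right (Ideal.mem_span_singleton_self s))) hsq
    · exact le_rfl
  have hsplit : ∀ z ∈ mH ^ k, ∃ α ∈ a, ∃ t, α + t * s = z := fun z hz => by
    obtain ⟨α, hα, w, hw, e⟩ := Submodule.mem_sup.mp (hk hz)
    obtain ⟨t, rfl⟩ := Ideal.mem_span_singleton'.mp hw
    exact ⟨α, hα, t, e⟩
  let y := x ^ k
  let Y := ι y
  have hY : Y ∈ mH ^ k := by
    show ι (x ^ k) ∈ _
    rw [map_pow]
    exact Ideal.pow_mem_pow hXm k
  obtain ⟨α, hα, t, hαt⟩ := hsplit Y hY
  let β := t * s
  have hββ : β * β = β * Y := by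
    rw [← hαt]
    linear_combination -t * hsa α hα
  -- approximation of `β` by an element of `A`
  obtain ⟨r, g, hg⟩ := Submodule.fg_iff_exists_fin_generating_family.mp (IsNoetherian.noetherian (maximalIdeal A ^ k))
  have hgk : (mH ^ k) = Ideal.span (Set.range fun i => ι (g i)) := by
    rw [hmH, ← Ideal.map_pow, show maximalIdeal A ^ k = Ideal.span (Set.range g) from hg.symm, Ideal.map_span,
      ← Set.range_comp]
    rfl
  have hgβ : ∀ i, ι (g i) * β ∈ Ideal.span {Y} := fun i => by
    obtain ⟨α', hα', t', e⟩ := hsplit (ι (g i)) (hgk ▸ Ideal.subset_span ⟨i, rfl⟩)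
    refine Ideal.mem_span_singleton'.mpr ⟨t' * s, ?_⟩
    rw [← e, ← hαt]
    linear_combination -t * hsa α' hα' + t' * hsa α hα
  let Kc : Ideal A := ⨅ i, (Ideal.span {y}).colon {g i}
  have hKc : ∀ c : A, c ∈ Kc ↔ ∀ i, g i * c ∈ Ideal.span {y} := fun c => by
    simp only [Kc, Submodule.mem_iInf, Submodule.mem_colon_singleton, smul_eq_mul, mul_comm c]
  have hβK : β ∈ Kc.map ι := mem_map_of_mul_mem g y β hgβ Kc fun c hc => (hKc c).mpr hc
  obtain ⟨a₀, c, hβa⟩ : ∃ (a₀ : A) (c : H), β = ι a₀ + Y * c := by
    have hsmall : ∀ u ∈ mH ^ k, ∀ κ ∈ Kc, u * ι κ ∈ Ideal.span {Y} := by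
      intro u hu κ hκ
      rw [hgk] at hu
      induction hu using Submodule.span_induction with
      | mem z hz =>
        obtain ⟨i, rfl⟩ := hz
        obtain ⟨e, he⟩ := Ideal.mem_span_singleton'.mp ((hKc κ).mp hκ i)
        exact Ideal.mem_span_singleton'.mpr ⟨ι e, by rw [← map_mul, he, map_mul]⟩
      | zero => rw [zero_mul]; exact zero_mem _
      | add z w _ _ h1 h2 => rw [add_mul]; exact add_mem h1 h2
      | smul d z _ h1 => rw [smul_eq_mul, mul_assoc]; exact Ideal.mul_mem_left _ _ h1
    suffices hall : ∀ z ∈ Kc.map ι, ∀ d : H, ∃ (a₀ : A) (c : H), d * z = ι a₀ + Y * c by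
      obtain ⟨a₀, c, h⟩ := hall β hβK 1
      exact ⟨a₀, c, by rw [← h, one_mul]⟩
    intro z hz
    induction hz using Submodule.span_induction with
    | mem w hw =>
      obtain ⟨κ, hκ, rfl⟩ := hw
      intro d
      obtain ⟨d₀, hd₀⟩ := Catenary.exists_sub_mem_pow d k
      obtain ⟨c, hc⟩ := Ideal.mem_span_singleton'.mp (hsmall _ hd₀ κ hκ)
      exact ⟨d₀ * κ, c, by rw [map_mul]; linear_combination -hc⟩
    | zero => exact fun d => ⟨0, 0, by simp⟩
    | add z w _ _ h1 h2 =>
      intro d
      obtain ⟨a₁, c₁, e₁⟩ := h1 d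
      obtain ⟨a₂, c₂, e₂⟩ := h2 d
      exact ⟨a₁ + a₂, c₁ + c₂, by rw [mul_add, e₁, e₂, map_add]; ring⟩
    | smul e z _ h1 =>
      intro d
      obtain ⟨a₁, c₁, e₁⟩ := h1 (d * e)
      exact ⟨a₁, c₁, by rw [smul_eq_mul, ← mul_assoc, e₁]⟩
  -- the extension `A[a₀ / y]`
  let F := FractionRing A
  let P : Ideal A[X] := RingHom.ker (aeval (R := A) (algebraMap A F a₀ / algebraMap A F y))
  haveI : P.IsPrime := RingHom.ker_isPrime _
  have hy0 : y ≠ 0 := pow_ne_zero _ hx0
  have hPC : P.comap C = ⊥ := by
    refine (Submodule.eq_bot_iff _).mpr fun b hb => ?_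
    have : aeval (R := A) (algebraMap A F a₀ / algebraMap A F y) (C b) = 0 := hb
    rw [aeval_C] at this
    exact (map_eq_zero_iff _ (IsFractionRing.injective A F)).mp this
  have hlin : C y * X - C a₀ ∈ P := by
    show aeval (R := A) (algebraMap A F a₀ / algebraMap A F y) (C y * X - C a₀) = 0
    rw [map_sub, map_mul, aeval_C, aeval_C, aeval_X,
      mul_div_cancel₀ _ (by rwa [ne_eq, map_eq_zero_iff _ (IsFractionRing.injective A F)]), sub_self]
  let _ := Polynomial.algebra A H
  have hρC : ∀ b : A, algebraMap A[X] H[X] (C b) = C (ι b) := fun b => Polynomial.map_C _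
  have hρX : algebraMap A[X] H[X] X = X := Polynomial.map_X _
  haveI : Module.Flat A[X] H[X] :=
    Module.Flat.isBaseChange A A[X] H H[X] (Algebra.IsPushout.out (R := A) (S := A[X]) (R' := H) (S' := H[X]))
  let τ := 1 - c
  let ev := evalRingHom τ
  -- primes containing the equations and omitting `y`
  have hcase : ∀ (Q : Ideal H[X]), Q.IsPrime → P.map (algebraMap A[X] H[X]) ≤ Q → C Y ∉ Q →
      (C α ∈ Q → X - C τ ∈ Q) ∧ (C β ∈ Q → X + C c ∈ Q) := by
    intro Q hQ hPQ hYQ
    have h0 := hPQ (Ideal.mem_map_of_mem (algebraMap A[X] H[X]) hlin)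
    rw [map_sub, map_mul, hρC, hρX, hρC] at h0
    constructor <;> intro h <;> refine (hQ.mem_or_mem ?_).resolve_left hYQ
    · have e : C Y * (X - C τ) = (C Y * X - C (ι a₀)) - C α := by
        have e' : C Y = C α + C β := by rw [← map_add, hαt]
        have e'' : C β = C (ι a₀) + C Y * C c := by rw [hβa, map_add, map_mul]
        rw [show τ = 1 - c from rfl, map_sub, map_one]
        linear_combination -e' - e''
      rw [e]
      exact sub_mem h0 h
    · have e : C Y * (X + C c) = (C Y * X - C (ι a₀)) + C β := by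
        rw [hβa, map_add, map_mul]
        ring
      rw [e]
      exact add_mem h0 h
  -- the image of `P` vanishes at `τ` modulo `q`
  have hPq : ∀ f ∈ P, ev (algebraMap A[X] H[X] f) ∈ q := by
    intro f hf
    have hq0 : ∀ b : A, b ≠ 0 → IsUnit (algebraMap (H ⧸ q) (FractionRing (H ⧸ q)) (Ideal.Quotient.mk q (ι b))) :=
      fun b hb => isUnit_iff_ne_zero.mpr fun h => notMem_minimalPrimes_completion hq hb
        (Ideal.Quotient.eq_zero_iff_mem.mp ((map_eq_zero_iff _ (IsFractionRing.injective _ _)).mp h))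
    let π := (algebraMap (H ⧸ q) (FractionRing (H ⧸ q))).comp (Ideal.Quotient.mk q)
    let ψ : F →+* FractionRing (H ⧸ q) :=
      IsLocalization.lift (M := nonZeroDivisors A) (g := π.comp ι) fun b => hq0 b (nonZeroDivisors.coe_ne_zero b)
    have hψ : ∀ b, ψ (algebraMap A F b) = π (ι b) := fun b => IsLocalization.lift_eq _ b
    have hπα : π α = 0 := by
      show algebraMap _ _ (Ideal.Quotient.mk q α) = _
      rw [Ideal.Quotient.eq_zero_iff_mem.mpr (haq hα), map_zero]
    have hψs : ψ (algebraMap A F a₀ / algebraMap A F y) = π τ := by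
      rw [map_div₀, hψ, hψ, div_eq_iff (show π (ι y) ≠ 0 from (hq0 y hy0).ne_zero)]
      have e : ι a₀ = τ * Y - α := by
        have : ι a₀ + Y * c = β := hβa.symm
        rw [show τ = 1 - c from rfl]
        linear_combination this + hαt
      rw [e, map_sub, map_mul, hπα, sub_zero]
    have hmaps : (π.comp ev).comp (algebraMap A[X] H[X]) =
        ψ.comp (aeval (R := A) (algebraMap A F a₀ / algebraMap A F y)).toRingHom := by
      refine Polynomial.ringHom_ext (fun b => ?_) ?_
      · show π (ev (algebraMap A[X] H[X] (C b))) = ψ (aeval (R := A) (algebraMap A F a₀ / algebraMap A F y) (C b))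
        rw [hρC, aeval_C, hψ, show ev (C (ι b)) = ι b from eval_C]
      · show π (ev (algebraMap A[X] H[X] X)) = ψ (aeval (R := A) (algebraMap A F a₀ / algebraMap A F y) X)
        rw [hρX, aeval_X, hψs, show ev X = τ from eval_X]
    have h0 : π (ev (algebraMap A[X] H[X] f)) = 0 := by
      rw [← RingHom.comp_apply, ← RingHom.comp_apply, hmaps, RingHom.comp_apply]
      show ψ (aeval (R := A) (algebraMap A F a₀ / algebraMap A F y) f) = 0
      rw [show aeval (R := A) (algebraMap A F a₀ / algebraMap A F y) f = 0 from hf, map_zero]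
    exact Ideal.Quotient.eq_zero_iff_mem.mp ((map_eq_zero_iff _ (IsFractionRing.injective _ _)).mp h0)
  let n : Ideal H[X] := mH.comap ev
  haveI : n.IsMaximal := Ideal.comap_isMaximal_of_surjective ev fun z => ⟨C z, eval_C⟩
  have hqm : q ≤ mH := le_maximalIdeal hq.isPrime.ne_top
  have hPn : P.map (algebraMap A[X] H[X]) ≤ n := Ideal.map_le_iff_le_comap.mpr fun f hf => hqm (hPq f hf)
  -- the contraction of `n` is maximal and lies over the maximal ideal
  let N : Ideal A[X] := n.under A[X]
  haveI : N.IsMaximal := by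
    let θ : A[X] →+* H ⧸ mH := ((Ideal.Quotient.mk mH).comp ev).comp (algebraMap A[X] H[X])
    have hθ : Function.Surjective θ := fun z => by
      obtain ⟨z, rfl⟩ := Ideal.Quotient.mk_surjective z
      obtain ⟨b, hb⟩ := Catenary.exists_sub_mem_pow z 1
      refine ⟨C b, ?_⟩
      show Ideal.Quotient.mk mH (ev (algebraMap A[X] H[X] (C b))) = _
      rw [hρC, show ev (C (ι b)) = ι b from eval_C, eq_comm, Ideal.Quotient.eq]
      rwa [pow_one] at hb
    have e : N = RingHom.ker θ := by
      ext f
      rw [RingHom.mem_ker]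
      show ev (algebraMap A[X] H[X] f) ∈ mH ↔ Ideal.Quotient.mk mH (ev (algebraMap A[X] H[X] f)) = 0
      exact (Ideal.Quotient.eq_zero_iff_mem).symm
    rw [e]
    let _ := Ideal.Quotient.field mH
    exact RingHom.ker_isMaximal_of_surjective θ hθ
  have hNC : N.comap C = maximalIdeal A := by
    have h1 : N.comap C = mH.comap ι := by
      ext b
      show ev (algebraMap A[X] H[X] (C b)) ∈ mH ↔ ι b ∈ mH
      rw [hρC, show ev (C (ι b)) = ι b from eval_C]
    rw [h1]
    exact le_antisymm (le_maximalIdeal (Ideal.IsPrime.comap ι).ne_top) (Ideal.map_le_iff_le_comap.mp hmH.ge)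
  have hPN : P ≤ N := Ideal.map_le_iff_le_comap.mp hPn
  haveI : (N.map (Ideal.Quotient.mk P)).IsPrime :=
    Ideal.map_isPrime_of_surjective Ideal.Quotient.mk_surjective (Ideal.mk_ker.trans_le hPN)
  refine (le_height_map_quotient hA P N hPC hNC hPN).trans ?_
  -- chains above `P` below `N` lift to chains above `q`
  obtain ⟨b, hb, hblen⟩ := Ideal.exists_ltSeries_length_eq_height (N.map (Ideal.Quotient.mk P))
  rw [← hblen]
  have hcs : StrictMono (PrimeSpectrum.comap (Ideal.Quotient.mk P)) := fun u v huv =>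
    lt_of_le_of_ne (Ideal.comap_mono huv.le) fun e =>
      huv.ne (PrimeSpectrum.comap_injective_of_surjective _ Ideal.Quotient.mk_surjective e)
  let l := b.map _ hcs
  have hlast : l.last.asIdeal = N := by
    rw [LTSeries.last_map]
    show b.last.asIdeal.comap _ = N
    rw [hb, Ideal.comap_map_of_surjective _ Ideal.Quotient.mk_surjective, ← RingHom.ker_eq_comap_bot,
      Ideal.mk_ker, sup_eq_left.2 hPN]
  have : n.LiesOver l.last.asIdeal := ⟨hlast⟩
  obtain ⟨L, hLlen, hLlast, hLmap⟩ := Ideal.exists_ltSeries_of_hasGoingDown l n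
  have hLhead : P ≤ L.head.asIdeal.under A[X] := by
    have h0 : PrimeSpectrum.comap (algebraMap A[X] H[X]) L.head = l.head := by
      rw [← L.toList_getElem_zero_eq_head, ← l.toList_getElem_zero_eq_head,
        List.getElem_map_rev (PrimeSpectrum.comap (algebraMap A[X] H[X])), List.getElem_of_eq hLmap _]
    rw [show L.head.asIdeal.under A[X] = l.head.asIdeal from congrArg PrimeSpectrum.asIdeal h0, LTSeries.head_map]
    intro z hz
    rw [PrimeSpectrum.comap_asIdeal, Ideal.mem_comap]
    rw [Ideal.Quotient.eq_zero_iff_mem.2 hz]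
    exact zero_mem _
  obtain ⟨Q, hQ, hQL⟩ := Ideal.exists_minimalPrimes_le (I := P.map (algebraMap A[X] H[X]))
    (J := L.head.asIdeal) (Ideal.map_le_iff_le_comap.mpr hLhead)
  haveI := hQ.isPrime
  have hQn : Q ≤ n := hQL.trans (by
    have : L.head ≤ L.last := L.monotone (Fin.zero_le _)
    rw [hLlast] at this
    exact this)
  have hYQ : C Y ∉ Q := by
    intro hYQ
    have : Q.LiesOver (Q.under A[X]) := ⟨rfl⟩
    obtain ⟨Q', hQ'Q, hQ', hQ'P⟩ := Ideal.exists_ideal_le_liesOver_of_le (p := P) (q := Q.under A[X]) Q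
      (Ideal.map_le_iff_le_comap.mp hQ.le)
    have h1 : Q ≤ Q' := hQ.2 ⟨hQ', Ideal.map_le_iff_le_comap.mpr hQ'P.over.le⟩ hQ'Q
    have h2 : C y ∈ Q'.under A[X] := by
      show algebraMap A[X] H[X] (C y) ∈ Q'
      rw [hρC]
      exact h1 hYQ
    rw [← hQ'P.over] at h2
    have : y ∈ P.comap C := h2
    rw [hPC, Ideal.mem_bot] at this
    exact hy0 this
  obtain ⟨hcα, hcβ⟩ := hcase Q inferInstance hQ.le hYQ
  let Q0 := Q.comap (C : H →+* H[X])
  have hαQ : C α ∈ Q := by
    have h0 : C α * C β ∈ Q := by
      rw [← map_mul, show α * β = 0 by show α * (t * s) = 0; linear_combination t * hsa α hα]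
      simp
    refine (Ideal.IsPrime.mem_or_mem inferInstance h0).resolve_right fun hβQ => ?_
    have h1 : ev (X + C c) ∈ mH := hQn (hcβ hβQ)
    rw [show ev (X + C c) = 1 by simp [ev, τ]] at h1
    exact (maximalIdeal.isMaximal H).ne_top ((Ideal.eq_top_iff_one _).mpr h1)
  have hlinQ := hcα hαQ
  have hqQ : q ≤ Q0 := by
    refine ha_above Q0 inferInstance fun z hz => ?_
    have hsQ : C s ∉ Q := fun h => hYQ (by
      rw [show C Y = C α + C t * C s by rw [← map_mul, ← map_add, hαt]]
      exact add_mem hαQ (Ideal.mul_mem_left _ _ h))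
    refine (Ideal.IsPrime.mem_or_mem (inferInstance : Q.IsPrime) ?_).resolve_left hsQ
    rw [← map_mul, hsa z hz, map_zero]
    exact zero_mem _
  have hLi : ∀ i, Q ≤ (L i).asIdeal := fun i => hQL.trans (L.monotone (Fin.zero_le i))
  have hmono : StrictMono fun i => PrimeSpectrum.comap (C : H →+* H[X]) (L i) := by
    intro i j hij
    refine lt_of_le_of_ne (Ideal.comap_mono (L.strictMono hij).le) fun e => (L.strictMono hij).ne ?_
    refine PrimeSpectrum.ext (le_antisymm (L.strictMono hij).le fun f hf => ?_)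
    obtain ⟨f', hf'⟩ : (X - C τ) ∣ f - C (f.eval τ) := by
      rw [dvd_iff_isRoot]; simp
    have h1 : C (f.eval τ) ∈ (L j).asIdeal := by
      rw [show C (f.eval τ) = f - (X - C τ) * f' by rw [← hf']; ring]
      exact sub_mem hf (Ideal.mul_mem_right _ _ (hLi j hlinQ))
    have h2 : f.eval τ ∈ (L i).asIdeal.comap C := by
      rw [show (L i).asIdeal.comap C = (L j).asIdeal.comap C from congrArg PrimeSpectrum.asIdeal e]
      exact h1
    rw [show f = C (f.eval τ) + (X - C τ) * f' by rw [← hf']; ring]
    exact add_mem h2 (Ideal.mul_mem_right _ _ (hLi i hlinQ))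
  let L' : LTSeries (PrimeSpectrum H) := LTSeries.mk L.length _ hmono
  have hle := Order.length_le_coheight (x := (⟨q, inferInstance⟩ : PrimeSpectrum H)) (p := L')
    (hqQ.trans (Ideal.comap_mono (hLi 0)))
  have hdim' : Order.coheight (⟨q, inferInstance⟩ : PrimeSpectrum H) ≤ 1 := by
    rw [← Hironaka.coheight_eq_ringKrullDim_quotient ⟨q, inferInstance⟩] at hdim
    exact_mod_cast hdim
  have := hle.trans hdim'
  rw [show L'.length = b.length from hLlen] at this
  exact_mod_cast this

/-- A universally catenary local domain is formally equidimensional. -/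
theorem isFormallyEquidim_of_isUniversallyCatenary : ∀ (d : ℕ) (A : Type u) [CommRing A] [IsDomain A]
    [IsLocalRing A] [IsNoetherianRing A], CAlg.IsUniversallyCatenary A → ringKrullDim A = d →
    EGA4.IsFormallyEquidim A := by
  classical
  intro d
  induction d using Nat.strong_induction_on with
  | _ d IH =>
    intro A _ _ _ _ hA hd q hq
    let B := AdicCompletion (maximalIdeal A) A
    have := CohenStruct.isNoetherianRing_completion A
    have := hq.isPrime
    let mH := maximalIdeal B
    have hmH : mH = (maximalIdeal A).map (algebraMap A B) := AdicCompletion.maximalIdeal_eq_map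
    have hdimB : ringKrullDim B = d := (S0547.result A).trans hd
    rw [show ringKrullDim B = d from hdimB]
    let q₀ : PrimeSpectrum B := ⟨q, inferInstance⟩
    rw [← Hironaka.coheight_eq_ringKrullDim_quotient q₀]
    obtain ⟨e, he⟩ := ENat.ne_top_iff_exists.mp (Hironaka.coheight_ne_top q₀)
    have hed : e ≤ d := by
      have := Order.coheight_le_krullDim q₀
      rw [← he] at this
      have h' : ((e : ℕ∞) : WithBot ℕ∞) ≤ ringKrullDim B := this
      rw [hdimB] at h'
      exact_mod_cast h'
    suffices hde : d ≤ e by rw [← he, le_antisymm hed hde]; rfl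
    by_contra hlt
    push Not at hlt
    by_cases he2 : e ≤ 1
    · have h1 : ringKrullDim A ≤ 1 := ringKrullDim_le_one_of_isolated hA q hq (by
        rw [← Hironaka.coheight_eq_ringKrullDim_quotient q₀, ← he]
        exact_mod_cast he2)
      rw [hd] at h1
      have hd1 : d ≤ 1 := by exact_mod_cast h1
      have he0 : e = 0 := by omega
      have hqmax : q = mH := by
        by_contra hne
        have hlt' : q₀ < closedPoint B := lt_of_le_of_ne (le_maximalIdeal hq.isPrime.ne_top)
          fun h => hne (congrArg PrimeSpectrum.asIdeal h)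
        have := Order.length_le_coheight_head (p := LTSeries.mk 1 ![q₀, closedPoint B]
          (Fin.strictMono_iff_lt_succ.mpr fun i => by fin_cases i; exact hlt'))
        simp [RelSeries.head, LTSeries.mk, ← he, he0] at this
      by_cases hfield : maximalIdeal A = ⊥
      · rw [← IsLocalRing.maximalIdeal_height_eq_ringKrullDim, hfield] at hd
        simp only [Ideal.height_bot] at hd
        have : d = 0 := by exact_mod_cast hd.symm
        omega
      · obtain ⟨x, hxm, hx0⟩ := (maximalIdeal A).ne_bot_iff.mp hfield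
        exact notMem_minimalPrimes_completion hq hx0 (hqmax ▸ hmH ▸ Ideal.mem_map_of_mem _ hxm)
    · push Not at he2
      have hcat : CAlg.IsCatenary B := (isUniversallyCatenary_completion A).2 _ inferInstance
      -- the finitely many bad primes above `q`
      let F : Set (Ideal B) := ⋃ q' ∈ (minimalPrimes B \ {q}), (q ⊔ q').minimalPrimes \ {mH}
      have hFfin : F.Finite := Set.Finite.biUnion ((minimalPrimes.finite_of_isNoetherianRing B).sdiff)
        fun _ _ => (Ideal.finite_minimalPrimes_of_isNoetherianRing _ _).sdiff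
      have hF : ∀ Q ∈ F, Q.IsPrime ∧ Q.comap (algebraMap A B) ≠ maximalIdeal A := by
        intro Q hQ
        simp only [F, Set.mem_iUnion, Set.mem_sdiff, Set.mem_singleton_iff] at hQ
        obtain ⟨q', -, hQ', hne⟩ := hQ
        refine ⟨hQ'.isPrime, fun h => hne (le_antisymm (le_maximalIdeal hQ'.isPrime.ne_top) ?_)⟩
        exact hmH.le.trans (Ideal.map_le_iff_le_comap.mpr h.ge)
      obtain ⟨x, hxm, hx0, hxF⟩ : ∃ x ∈ maximalIdeal A, x ≠ 0 ∧ ∀ Q ∈ F, algebraMap A B x ∉ Q := by
        let S : Finset (Ideal A) := insert ⊥ (hFfin.toFinset.image fun Q => Q.comap (algebraMap A B))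
        by_contra hne
        push Not at hne
        have hsub : (maximalIdeal A : Set A) ⊆ ⋃ i ∈ (S : Set (Ideal A)), ((id i : Ideal A) : Set A) := by
          intro x hx
          rw [Set.mem_iUnion₂]
          by_cases hx0 : x = 0
          · exact ⟨⊥, Finset.mem_insert_self _ _, hx0 ▸ zero_mem _⟩
          · obtain ⟨Q, hQ, hxQ⟩ := hne x hx hx0
            exact ⟨Q.comap (algebraMap A B),
              Finset.mem_insert_of_mem (Finset.mem_image.mpr ⟨Q, hFfin.mem_toFinset.mpr hQ, rfl⟩), hxQ⟩
        obtain ⟨i, hi, hle⟩ := (Ideal.subset_union_prime (R := A) (f := id) ⊥ ⊥ (fun i hi h1 _ => by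
          obtain ⟨Q, hQ, rfl⟩ := Finset.mem_image.mp ((Finset.mem_insert.mp hi).resolve_left h1)
          have := (hF Q (hFfin.mem_toFinset.mp hQ)).1
          exact Ideal.IsPrime.comap _)).mp hsub
        rcases Finset.mem_insert.mp hi with rfl | hi
        · rw [← IsLocalRing.maximalIdeal_height_eq_ringKrullDim, le_bot_iff.mp hle] at hd
          simp only [Ideal.height_bot] at hd
          have : d = 0 := by exact_mod_cast hd.symm
          omega
        · obtain ⟨Q, hQ, rfl⟩ := Finset.mem_image.mp hi
          obtain ⟨h1, h2⟩ := hF Q (hFfin.mem_toFinset.mp hQ)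
          exact h2 (le_antisymm (le_maximalIdeal (Ideal.IsPrime.comap _).ne_top) hle)
      have hxq := notMem_minimalPrimes_completion hq hx0
      have hXm : algebraMap A B x ∈ mH := hmH ▸ Ideal.mem_map_of_mem _ hxm
      obtain ⟨Q, hQ, hQm⟩ := Ideal.exists_minimalPrimes_le (I := q ⊔ Ideal.span {algebraMap A B x}) (J := mH)
        (sup_le (le_maximalIdeal hq.isPrime.ne_top) ((Ideal.span_singleton_le_iff_mem _).mpr hXm))
      have := hQ.isPrime
      let Q₀ : PrimeSpectrum B := ⟨Q, inferInstance⟩
      have hcov : q₀ ⋖ Q₀ := Hironaka.covBy_of_mem_minimalPrimes_sup hxq hQ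
      obtain ⟨e', he'⟩ := ENat.ne_top_iff_exists.mp (Hironaka.coheight_ne_top Q₀)
      have hee : e = e' + 1 := by
        have := Hironaka.coheight_of_covBy hcat hcov
        rw [← he, ← he'] at this
        exact_mod_cast this
      have hxQ : algebraMap A B x ∈ Q := hQ.le (Ideal.mem_sup_right (Ideal.mem_span_singleton_self _))
      -- `q` is the only minimal prime inside `Q`
      have honly : ∀ q' ∈ minimalPrimes B, q' ≤ Q → q' = q := by
        intro q' hq' hle
        by_contra hne
        have := hq'.isPrime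
        refine hxF Q ?_ hxQ
        simp only [F, Set.mem_iUnion, Set.mem_sdiff, Set.mem_singleton_iff]
        refine ⟨q', ⟨hq', hne⟩, ⟨⟨inferInstance, sup_le hcov.le hle⟩, fun r hr hrQ => ?_⟩, fun hQmax => ?_⟩
        · obtain ⟨hr, hle'⟩ := hr
          let r₀ : PrimeSpectrum B := ⟨r, hr⟩
          have h1 : q₀ < r₀ := lt_of_le_of_ne (le_sup_left.trans hle') fun h =>
            hne (le_antisymm ((le_sup_right.trans hle').trans (congrArg PrimeSpectrum.asIdeal h).ge)
              (hq.2 ⟨hq'.isPrime, bot_le⟩ ((le_sup_right.trans hle').trans (congrArg PrimeSpectrum.asIdeal h).ge)))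
          exact (congrArg PrimeSpectrum.asIdeal ((le_iff_lt_or_eq.mp (show r₀ ≤ Q₀ from hrQ)).resolve_left
            (hcov.2 h1))).ge
        · have h0 : Order.coheight Q₀ = 0 := by
            rw [Order.coheight_eq_zero]
            intro w hw
            exact (show w.asIdeal ≤ Q from hQmax ▸ le_maximalIdeal w.2.ne_top)
          rw [← he'] at h0
          have : e' = 0 := by exact_mod_cast h0
          omega
      let p := Q.comap (algebraMap A B)
      have hQp : Q ∈ (p.map (algebraMap A B)).minimalPrimes := by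
        refine ⟨⟨inferInstance, Ideal.map_comap_le⟩, fun r hr hrQ => ?_⟩
        obtain ⟨hr, hle⟩ := hr
        obtain ⟨q', hq', hq'r⟩ := Ideal.exists_minimalPrimes_le (I := (⊥ : Ideal B)) (J := r) bot_le
        rw [honly q' hq' (hq'r.trans hrQ)] at hq'r
        exact hQ.2 ⟨hr, sup_le hq'r ((Ideal.span_singleton_le_iff_mem _).mpr
          (hle (Ideal.mem_map_of_mem _ hxQ)))⟩ hrQ
      have hpx : p ∈ (Ideal.span {x}).minimalPrimes := by
        refine ⟨⟨inferInstance, (Ideal.span_singleton_le_iff_mem _).mpr hxQ⟩, fun r hr hrp => ?_⟩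
        obtain ⟨hr, hle⟩ := hr
        have : Q.LiesOver p := ⟨rfl⟩
        obtain ⟨Q', hQ'Q, hQ', hQ'r⟩ := Ideal.exists_ideal_le_liesOver_of_le (p := r) (q := p) Q hrp
        have h1 : Q ≤ Q' := by
          obtain ⟨q', hq', hq'r⟩ := Ideal.exists_minimalPrimes_le (I := (⊥ : Ideal B)) (J := Q') bot_le
          rw [honly q' hq' (hq'r.trans hQ'Q)] at hq'r
          refine hQ.2 ⟨hQ', sup_le hq'r ((Ideal.span_singleton_le_iff_mem _).mpr ?_)⟩ hQ'Q
          have h2 : x ∈ Q'.under A := hQ'r.over ▸ hle (Ideal.mem_span_singleton_self x)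
          exact h2
        rw [hQ'r.over]
        exact Ideal.comap_mono h1
      have hp1 : p.height = 1 := by
        refine le_antisymm ?_ (Order.one_le_iff_pos.mpr (pos_iff_ne_zero.mpr fun h => ?_))
        · exact Ideal.height_le_one_of_isPrincipal_of_mem_minimalPrimes _ _ hpx
        · rw [Ideal.height_eq_zero_iff, IsDomain.minimalPrimes_eq_singleton_bot, Set.mem_singleton_iff] at h
          exact hx0 ((Submodule.mem_bot A).mp (h ▸ (show x ∈ p from hxQ)))
      have hAcat : HeightCat A := GeomUnib.heightCat_of_isDomain hA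
      have hdp := hAcat.height_add_dim p
      rw [hp1, hd] at hdp
      have : Nontrivial (A ⧸ p) := Ideal.Quotient.nontrivial_iff.mpr (Ideal.IsPrime.ne_top inferInstance)
      have : IsLocalRing (A ⧸ p) := .of_surjective' (Ideal.Quotient.mk p) Ideal.Quotient.mk_surjective
      obtain ⟨d', hd'⟩ : ∃ d' : ℕ, ringKrullDim (A ⧸ p) = d' := by
        obtain ⟨c, hc⟩ := ENat.ne_top_iff_exists.mp (Hironaka.coheight_ne_top (⟨p, inferInstance⟩ : PrimeSpectrum A))
        exact ⟨c, by rw [← Hironaka.coheight_eq_ringKrullDim_quotient ⟨p, inferInstance⟩, ← hc]; rfl⟩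
      rw [hd'] at hdp
      have hdd : d = d' + 1 := by
        have : ((1 + d' : ℕ) : WithBot ℕ∞) = (d : WithBot ℕ∞) := by rw [← hdp]; push_cast; rfl
        have := Nat.cast_inj.mp this
        omega
      have hIH := IH d' (by omega) (A ⧸ p)
        (GeomUnib.isUniversallyCatenary_of_surjective' (Ideal.Quotient.mk p) Ideal.Quotient.mk_surjective hA) hd'
      obtain ⟨Φ⟩ := exists_completion_quotient_equiv p
      let f : B →+* AdicCompletion (maximalIdeal (A ⧸ p)) (A ⧸ p) :=
        Φ.symm.toRingHom.comp (Ideal.Quotient.mk (p.map (algebraMap A B)))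
      have hker : RingHom.ker f = p.map (algebraMap A B) := by
        ext z
        rw [RingHom.mem_ker]
        change Φ.symm (Ideal.Quotient.mk _ z) = 0 ↔ _
        rw [map_eq_zero_iff _ Φ.symm.injective, Ideal.Quotient.eq_zero_iff_mem]
      have := (isEquidim_iff_of_surjective f (Φ.symm.surjective.comp Ideal.Quotient.mk_surjective)).mp hIH Q
        (hker.symm ▸ hQp)
      rw [← Hironaka.coheight_eq_ringKrullDim_quotient Q₀, S0547.result (A ⧸ p), hd', ← he'] at this
      have : e' = d' := by exact_mod_cast this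
      omega

/-- Ratliff's theorem, the direction from universally catenary to formally catenary. -/
theorem isFormallyCatenary_of_isUniversallyCatenary (A : Type u) [CommRing A] [IsLocalRing A]
    [IsNoetherianRing A] (hA : CAlg.IsUniversallyCatenary A) : EGA4.IsFormallyCatenary A := by
  intro p _
  have : IsLocalRing (A ⧸ p) := .of_surjective' (Ideal.Quotient.mk p) Ideal.Quotient.mk_surjective
  obtain ⟨c, hc⟩ := ENat.ne_top_iff_exists.mp (Hironaka.coheight_ne_top (⟨p, inferInstance⟩ : PrimeSpectrum A))
  exact isFormallyEquidim_of_isUniversallyCatenary c (A ⧸ p)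
    (GeomUnib.isUniversallyCatenary_of_surjective' (Ideal.Quotient.mk p) Ideal.Quotient.mk_surjective hA)
    (by rw [← Hironaka.coheight_eq_ringKrullDim_quotient ⟨p, inferInstance⟩, ← hc]; rfl)

end Groth.Agent.Catenary
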